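import Cfsg.Agent.Lib.Fi24Cover5.Ops

/-! The signs reach every open edge. -/

set_option maxRecDepth 100000
set_option Elab.async false

namespace Cfsg.Agent.Lib.Fi24Cover5

theorem sign_ok : signCheck = true := by
  decide +kernel

end Cfsg.Agent.Lib.Fi24Cover5
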