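import Mathlib
import Cfsg.Agent.Lib.CosetTable.Lanes.Fi24.Cosets
import Cfsg.Agent.Lib.Fi24Cover5.SignOK

/-!
An extension of the presented Fi24 whose generators satisfy the Coxeter relations and the relation
of the E7 word has cyclic kernel of order dividing three.

The closure of the coset table runs as in `Lanes.Fi24.Cosets` up to the spider word, which is not
used; the open edges carry one sign `t` or `t⁻¹`.
-/

set_option autoImplicit false
set_option maxRecDepth 100000

namespace Cfsg.Agent.Lib.Fi24Cover5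

open Cfsg.Agent.Lib.CosetTable.Lanes Cfsg.Agent.Lib.CosetTable.Lanes.Fi24

/-- Lifts of the generators with the relations of Y542 and of the E7 word. -/
structure Lifted {E : Type*} [Group E] (π : E →* Cfsg.Spor.Fi24) (y : ℕ → E) : Prop where
  proj : ∀ g, π (y g) = gn g
  sq : ∀ g, y g * y g = 1
  comm : ∀ a b, commB a b = true → y a * y b = y b * y a
  braid : ∀ a b, a < 12 → b < 12 → adjI a b = true → a ≠ b →
    y a * y b * y a = y b * y a * y b
  seven : pw y [2, 3, 4, 5, 6, 7, 10] ^ 9 = y 0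
  gen : Subgroup.closure (y '' {g | g < 12}) = ⊤
  sigma : ∀ a b, a < 12 → b < 12 → ∀ v ∈ π.ker, y a * v * y a = y b * v * y b
  meet : Subgroup.closure (y '' {g | g < 12 ∧ g ≠ 1}) ⊓ π.ker = ⊥

section Words

variable {E : Type*} [Group E] {π : E →* Cfsg.Spor.Fi24} {y : ℕ → E} (hL : Lifted π y)
include hL

theorem rot_step' {x : ℕ} {W u : List ℕ} (hx : commB x 0 = true) (h : pw y W ^ 9 = y 0)
    (e : traceEq commB W (x :: u) = true) : pw y (u ++ [x]) ^ 9 = y 0 :=
  rotate_pow x u (hL.comm x 0 hx) (by rw [← traceEq_sound hL.comm _ _ e]; exact h)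

theorem e7_variant' : pw y [10, 6, 4, 2, 7, 5, 3] ^ 9 = y 0 := by
  have h1 : pw y [3, 4, 5, 6, 7, 10, 2] ^ 9 = y 0 :=
    rot_step' hL (x := 2) (u := [3, 4, 5, 6, 7, 10]) (by decide) hL.seven (by decide)
  have h2 : pw y [4, 5, 6, 7, 10, 2, 3] ^ 9 = y 0 :=
    rot_step' hL (x := 3) (u := [4, 5, 6, 7, 10, 2]) (by decide) h1 (by decide)
  have h3 : pw y [5, 6, 7, 10, 2, 3, 4] ^ 9 = y 0 :=
    rot_step' hL (x := 4) (u := [5, 6, 7, 10, 2, 3]) (by decide) h2 (by decide)
  have h4 : pw y [6, 7, 10, 2, 3, 4, 5] ^ 9 = y 0 :=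
    rot_step' hL (x := 5) (u := [6, 7, 10, 2, 3, 4]) (by decide) h3 (by decide)
  have h5 : pw y [6, 7, 10, 3, 4, 5, 2] ^ 9 = y 0 :=
    rot_step' hL (x := 2) (u := [6, 7, 10, 3, 4, 5]) (by decide) h4 (by decide)
  have h6 : pw y [6, 7, 10, 4, 5, 2, 3] ^ 9 = y 0 :=
    rot_step' hL (x := 3) (u := [6, 7, 10, 4, 5, 2]) (by decide) h5 (by decide)
  rw [traceEq_sound hL.comm [10, 6, 4, 2, 7, 5, 3] [6, 7, 10, 4, 5, 2, 3] (by decide)]
  exact h6

theorem inv_gen (g : ℕ) : (y g)⁻¹ = y g := inv_eq_of_mul_eq_one_right (hL.sq g)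

omit hL in
theorem wprod_rev : ∀ w : List ℕ, wprod y w = pw y w.reverse
  | [] => rfl
  | a :: t => by
    rw [wprod, wprod_rev t, List.reverse_cons, pw_append, pw_cons, pw_nil, mul_one]

theorem pw_rev : ∀ w : List ℕ, pw y w.reverse = (pw y w)⁻¹
  | [] => inv_one.symm
  | a :: t => by
    rw [List.reverse_cons, pw_append, pw_rev t, pw_cons a t, pw_cons, pw_nil, mul_one,
      mul_inv_rev, inv_gen hL]

end Words

/-- the relators used before the spider word -/
def wordB' (w : List ℕ) : Bool :=
  braidB w || w == 0 :: (List.replicate 9 [3, 5, 7, 2, 4, 6, 10]).flatten ||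
    w == 0 :: (List.replicate 9 [10, 7, 6, 5, 4, 3, 2]).flatten

/-- a step that does not use the spider word -/
def goodB' : Op → Bool
  | .word w => wordB' w && w.all (fun a => Nat.blt a 12) && goodB (.word w)
  | o => goodB o

theorem goodB'_ops : (ops0 ++ ops1 ++ ops2 ++ ops3 ++ ops4 ++ ops5 ++ ops6 ++ ops7 ++ ops8 ++
    ops9 ++ ops10 ++ ops11 ++ ops12 ++ ops13 ++ ops14 ++ ops15 ++ ops16 ++ ops17 ++
    closeOps).all goodB' = true := by decide +kernel

section Sound

variable {E : Type*} [Group E] {π : E →* Cfsg.Spor.Fi24} {y : ℕ → E} (hL : Lifted π y)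
include hL

theorem wprod_word' (w : List ℕ) (h : wordB' w = true) : wprod y w = 1 := by
  simp only [wordB', Bool.or_eq_true, beq_iff_eq] at h
  rw [wprod_rev]
  rcases h with (h | rfl) | rfl
  · match w, h with
    | [a, b, c, d, e, f], h =>
      simp only [braidB, Bool.and_eq_true, Bool.not_eq_true', Nat.blt_eq] at h
      obtain ⟨⟨⟨⟨⟨⟨⟨ha, hb⟩, hac⟩, hae⟩, hbd⟩, hbf⟩, hadj⟩, hne⟩ := h
      obtain rfl := Nat.eq_of_beq_eq_true hac
      obtain rfl := Nat.eq_of_beq_eq_true hae
      obtain rfl := Nat.eq_of_beq_eq_true hbd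
      obtain rfl := Nat.eq_of_beq_eq_true hbf
      have hne' : a ≠ b := fun e => by subst e; rw [Nat.beq_refl] at hne; simp at hne
      have := hL.braid a b ha hb hadj hne'
      rw [pw_rev hL, inv_eq_one]
      simp only [pw, List.map_cons, List.map_nil, List.prod_cons, List.prod_nil, mul_one]
      calc y a * (y b * (y a * (y b * (y a * y b)))) =
          (y a * y b * y a) * (y b * y a * y b) := by group
        _ = 1 := by
          nth_rw 1 [this]
          simp only [mul_assoc]
          rw [← mul_assoc (y b) (y b), hL.sq, one_mul, ← mul_assoc (y a) (y a), hL.sq, one_mul,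
            hL.sq]
  · rw [show List.reverse (0 :: (List.replicate 9 [3, 5, 7, 2, 4, 6, 10]).flatten : List ℕ) =
        (List.replicate 9 [10, 6, 4, 2, 7, 5, 3]).flatten ++ [0] from rfl,
      pw_append, pw_replicate, e7_variant' hL, pw_cons, pw_nil, mul_one, hL.sq]
  · rw [show List.reverse (0 :: (List.replicate 9 [10, 7, 6, 5, 4, 3, 2]).flatten : List ℕ) =
        (List.replicate 9 [2, 3, 4, 5, 6, 7, 10]).flatten ++ [0] from rfl,
      pw_append, pw_replicate, hL.seven, pw_cons, pw_nil, mul_one, hL.sq]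

theorem good' {o : Op} (h : goodB' o = true) : o.Good sys y := by
  cases o with
  | sym => trivial
  | word w =>
    simp only [goodB', Bool.and_eq_true] at h
    exact ⟨wprod_word' hL w h.1.1, (good_of_goodB h.2).2⟩
  | comm a bs =>
    intro b hb
    have h0 := good_of_goodB (o := .comm a bs) h b hb
    have hc : commB a b = true := by
      have := h
      simp only [goodB', goodB, List.all_eq_true] at this
      exact this b hb
    exact ⟨hL.comm a b hc, h0.2⟩
  | commMid a bs =>
    intro b hb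
    obtain ⟨h0, hp⟩ := good_of_goodB (o := .commMid a bs) h b hb
    have hc : commB a b = true := by
      have := h
      simp only [goodB', goodB, List.all_eq_true, Bool.and_eq_true] at this
      exact (this b hb).1
    exact ⟨⟨hL.comm a b hc, h0.2⟩, hp⟩

theorem goods {os : List Op} (h : os.all goodB' = true) : ∀ o ∈ os, o.Good sys y :=
  fun o ho => good' hL (List.all_eq_true.1 h o ho)

/-- the subgroup of all generators but `k` -/
abbrev sub' (y : ℕ → E) : Subgroup E := Subgroup.closure (y '' {g | g < 12 ∧ g ≠ 1})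

/-- labels of the lanes, right wherever the knowledge before the spider word says so -/
theorem exists_labels' : ∃ c : ℕ → E ⧸ sub' y, c base = ((1 : E) : E ⧸ sub' y) ∧
    KOK sys y c state18 := by
  have hinv := hL.sq
  have h0 : ∀ g i, i < sys.size → (getK start g).testBit i = true →
      (Nat.shiftLeft 1 base).testBit i = true ∧
        (Nat.shiftLeft 1 base).testBit (sys.pos g i) = true ∧
          Known sys y (fun _ => ((1 : E) : E ⧸ sub' y)) g i := by
    intro g i _ hb
    have hg : getK start g = Nat.shiftLeft 1 base ∧ g < 12 ∧ g ≠ 1 ∨ getK start g = 0 := by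
      rcases g with _ | _ | _ | _ | _ | _ | _ | _ | _ | _ | _ | _ | g <;>
        simp [start, getK_cons_succ, getK_cons_zero, getK_nil]
    rcases hg with ⟨e, hg, h1⟩ | e
    · rw [e] at hb
      obtain rfl := testBit_base hb
      refine ⟨hb, by rw [pos_base hg h1]; exact hb, ?_⟩
      show y g • ((1 : E) : E ⧸ sub' y) = _
      rw [MulAction.Quotient.smul_mk, smul_eq_mul, mul_one, QuotientGroup.eq]
      simp only [mul_one, inv_mem_iff]
      exact Subgroup.subset_closure ⟨g, ⟨hg, h1⟩, rfl⟩
    · rw [e, Nat.zero_testBit] at hb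
      simp at hb
  obtain ⟨c, hc, hK⟩ := exists_labelling valid hinv order _ start _ h0
  have hg := grows
  rw [Grows, grow_eq, both_eq, Bool.and_eq_true] at hg
  rw [sameL_eq _ _ hg.2] at hK
  have hall := goodB'_ops
  simp only [List.all_append, Bool.and_eq_true] at hall
  obtain ⟨⟨⟨⟨⟨⟨⟨⟨⟨⟨⟨⟨⟨⟨⟨⟨⟨⟨a0, a1⟩, a2⟩, a3⟩, a4⟩, a5⟩, a6⟩, a7⟩, a8⟩, a9⟩, a10⟩, a11⟩, a12⟩,
    a13⟩, a14⟩, a15⟩, a16⟩, a17⟩, -⟩ := hall
  have g := fun {os : List Op} (h : os.all goodB' = true) => goods hL h
  have hK1 := Leads.sound valid hinv (g a0) hK leads0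
  have hK2 := Leads.sound valid hinv (g a1) hK1 leads1
  have hK3 := Leads.sound valid hinv (g a2) hK2 leads2
  have hK4 := Leads.sound valid hinv (g a3) hK3 leads3
  have hK5 := Leads.sound valid hinv (g a4) hK4 leads4
  have hK6 := Leads.sound valid hinv (g a5) hK5 leads5
  have hK7 := Leads.sound valid hinv (g a6) hK6 leads6
  have hK8 := Leads.sound valid hinv (g a7) hK7 leads7
  have hK9 := Leads.sound valid hinv (g a8) hK8 leads8
  have hK10 := Leads.sound valid hinv (g a9) hK9 leads9
  have hK11 := Leads.sound valid hinv (g a10) hK10 leads10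
  have hK12 := Leads.sound valid hinv (g a11) hK11 leads11
  have hK13 := Leads.sound valid hinv (g a12) hK12 leads12
  have hK14 := Leads.sound valid hinv (g a13) hK13 leads13
  have hK15 := Leads.sound valid hinv (g a14) hK14 leads14
  have hK16 := Leads.sound valid hinv (g a15) hK15 leads15
  have hK17 := Leads.sound valid hinv (g a16) hK16 leads16
  have hK18 := Leads.sound valid hinv (g a17) hK17 leads17
  refine ⟨c, hc _ ?_, hK18⟩
  show (1 <<< base).testBit base = true
  rw [Nat.one_shiftLeft, Nat.testBit_two_pow_self]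

end Sound

end Cfsg.Agent.Lib.Fi24Cover5
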