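import Cfsg.Agent.Lib.Fi24Cover5.ModelOps

/-! Offsets of relators vanish. -/

set_option maxRecDepth 100000
set_option Elab.async false

namespace Cfsg.Agent.Lib.Fi24Cover5

theorem cox_ok0 : coxCheck [0, 1, 2, 3] = true := by
  decide +kernel

end Cfsg.Agent.Lib.Fi24Cover5
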