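import Mathlib
import Cfsg.Agent.Lib.CosetTable.Lanes.Fi24.Cosets
import Cfsg.Agent.Lib.Fi24Cover5.ModelOK0
import Cfsg.Agent.Lib.Fi24Cover5.ModelOK1
import Cfsg.Agent.Lib.Fi24Cover5.ModelOK2
import Cfsg.Agent.Lib.Fi24Cover5.ModelOK3

/-!
The action of Y542 with the E7 relation on three copies of the 306936 lanes.
-/

set_option autoImplicit false
set_option maxRecDepth 100000

namespace Cfsg.Agent.Lib.Fi24Cover5

open Cfsg.Agent.Lib.CosetTable.Lanes Cfsg.Agent.Lib.CosetTable.Lanes.Fi24

/-- the three copies of the lanes -/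
abbrev Pt3 : Type := Fin sys.size × ZMod 3

/-- value of two bits -/
def val3 (p m : Bool) : ZMod 3 := if p then 1 else if m then -1 else 0

/-- the value of generator `g` at lane `i` -/
noncomputable def volt (g : ℕ) (i : ℕ) : ZMod 3 :=
  val3 ((getK plusL g).testBit i) ((getK minusL g).testBit i)

/-- the map of generator `g` -/
noncomputable def move (g : ℕ) (x : Pt3) : Pt3 := (perm g x.1, volt g x.1.val - x.2)

/-- the map of a word -/
noncomputable def act : List ℕ → Pt3 → Pt3
  | [], x => x
  | a :: w, x => move a (act w x)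

theorem testBit_minusBits (x y i : ℕ) :
    (minusBits x y).testBit i = (x.testBit i && !y.testBit i) := by
  show (x ^^^ (x &&& y)).testBit i = _
  rw [Nat.testBit_xor, Nat.testBit_and]
  cases x.testBit i <;> cases y.testBit i <;> rfl

theorem bit_sub : ∀ vp vm dp dm : Bool, (dp && dm) = false →
    let vm' := vm && !vp
    let p := (vp && !(dp || dm)) || ((dm && !(vp || vm')) || (vm' && dp))
    let m := (vm' && !(dp || dm)) || ((dp && !(vp || vm')) || (vp && dm))
    val3 p m = val3 vp vm - val3 dp dm ∧ (p && m) = false := by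
  decide

theorem subThree_spec (vp vm dp dm : ℕ) :
    ∃ p m, (∀ k, subThree vp (minusBits vm vp) dp dm k = k p m) ∧
      ∀ i, (dp.testBit i && dm.testBit i) = false →
        val3 (p.testBit i) (m.testBit i) =
            val3 (vp.testBit i) (vm.testBit i) - val3 (dp.testBit i) (dm.testBit i) ∧
          (p.testBit i && m.testBit i) = false := by
  refine ⟨(minusBits vp (dp.lor dm)).lor ((minusBits dm (vp.lor (minusBits vm vp))).lor
      ((minusBits vm vp).land dp)),
    (minusBits (minusBits vm vp) (dp.lor dm)).lor ((minusBits dp (vp.lor (minusBits vm vp))).lor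
      (vp.land dm)), fun k => by simp only [subThree, strict_eq], fun i hi => ?_⟩
  have h := bit_sub (vp.testBit i) (vm.testBit i) (dp.testBit i) (dm.testBit i) hi
  simpa only [show ∀ a b : ℕ, (Nat.lor a b).testBit i = (a.testBit i || b.testBit i) from
      fun a b => Nat.testBit_or a b i, show ∀ a b : ℕ, (Nat.land a b).testBit i =
      (a.testBit i && b.testBit i) from fun a b => Nat.testBit_and a b i, testBit_minusBits] using h

/-- the offsets of `w` are read off two bit vectors -/
theorem offs_spec : ∀ w : List ℕ, ∃ p m, (∀ k, offs sys plusL minusL w k = k p m) ∧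
    (∀ i, i < sys.size → (p.testBit i && m.testBit i) = false) ∧
    ∀ (i : Fin sys.size) (s : ZMod 3), act w (i, s) = (pw perm w i,
      (-1) ^ w.length * s + val3 (p.testBit (pw perm w i).val) (m.testBit (pw perm w i).val))
  | [] => by
    refine ⟨0, 0, fun k => rfl, fun i _ => by simp, fun i s => ?_⟩
    simp [act, pw_nil, val3]
  | a :: w => by
    obtain ⟨dp, dm, e, hd, hact⟩ := offs_spec w
    obtain ⟨p, m, e', hv⟩ := subThree_spec (getK plusL a) (getK minusL a) dp dm
    refine ⟨sys.route a p, sys.route a m, fun k => ?_, fun i hi => ?_, fun i s => ?_⟩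
    · show offs sys plusL minusL w (fun dp dm => _) = _
      rw [e, e']
      simp only [strict_eq]
    · rw [Sys.testBit_route valid, Sys.testBit_route valid]
      exact (hv _ (hd _ (Sys.pos_lt valid a hi))).2
    · have hj := (pw perm w i).2
      rw [act, hact, move, pw_cons, Equiv.Perm.mul_apply]
      refine Prod.ext rfl ?_
      simp only [Sys.testBit_route valid, perm_val, pos_invol a _ hj]
      rw [(hv _ (hd _ hj)).1, volt, List.length_cons, pow_succ]
      ring

theorem act_of_zero {w : List ℕ} (h : offZero w = true) (he : Even w.length)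
    (hp : pw perm w = 1) : ∀ x, act w x = x := by
  obtain ⟨p, m, e, -, hact⟩ := offs_spec w
  rw [offZero, e, both_eq, Bool.and_eq_true] at h
  obtain rfl := Nat.eq_of_beq_eq_true h.1
  obtain rfl := Nat.eq_of_beq_eq_true h.2
  rintro ⟨i, s⟩
  rw [hact, hp, Equiv.Perm.one_apply, he.neg_one_pow, one_mul, Nat.zero_testBit]
  simp [val3]

theorem adjN_eq : ∀ a < 12, ∀ b < 12, adjN a b = adjI a b := by decide +kernel

theorem coxWord_eq : ∀ a < 12, ∀ b < 12, coxWord a b =
    (List.replicate (if a = b then 1 else if adjI a b then 3 else 2) [a, b]).flatten := by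
  decide +kernel

theorem coxWord_zero {a b : ℕ} (ha : a < 12) (hb : b < 12) : offZero (coxWord a b) = true := by
  have h0 := cox_ok0
  have h1 := cox_ok1
  have h2 := cox_ok2
  rw [coxCheck, allB_iff] at h0 h1 h2
  have hb' : b ∈ twelve := by
    rcases b with _ | _ | _ | _ | _ | _ | _ | _ | _ | _ | _ | _ | b
    all_goals first | omega | simp [twelve]
  by_cases h4 : a < 4
  · exact (allB_iff _ _).1 (h0 a (by simp; omega)) b hb'
  by_cases h8 : a < 8
  · exact (allB_iff _ _).1 (h1 a (by simp; omega)) b hb'
  · exact (allB_iff _ _).1 (h2 a (by simp; omega)) b hb'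

theorem move_move {g : ℕ} (hg : g < 12) (x : Pt3) : move g (move g x) = x := by
  have e : coxWord g g = [g, g] := by rw [coxWord_eq g hg g hg, if_pos rfl]; rfl
  have h := act_of_zero (coxWord_zero hg hg) (by rw [e]; exact even_two)
    (by rw [e, pw_cons, pw_cons, pw_nil, mul_one, perm_mul_self]) x
  rwa [e] at h

/-- the permutation of generator `g` on the three copies -/
noncomputable def move3 (g : Cfsg.Spor.Fi24.Gen) : Equiv.Perm Pt3 where
  toFun := move (idx g)
  invFun := move (idx g)
  left_inv := move_move (idx_lt g)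
  right_inv := move_move (idx_lt g)

/-- the same, by numbers -/
noncomputable def mv (g : ℕ) : Equiv.Perm Pt3 := move3 (genOf g)

theorem mv_apply {g : ℕ} (hg : g < 12) (x : Pt3) : mv g x = move g x := by
  have h : idx (genOf g) = g := (by decide : ∀ g < 12, idx (genOf g) = g) g hg
  show move (idx (genOf g)) x = _
  rw [h]

theorem pw_mv_apply : ∀ {w : List ℕ}, (∀ a ∈ w, a < 12) → ∀ x, pw mv w x = act w x
  | [], _, x => rfl
  | a :: w, h, x => by
    rw [pw_cons, Equiv.Perm.mul_apply, mv_apply (h a List.mem_cons_self),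
      pw_mv_apply (fun b hb => h b (List.mem_cons_of_mem _ hb))]
    rfl

theorem phi_pw' : ∀ {w : List ℕ}, (∀ a ∈ w, a < 12) → phi (pw gn w) = pw perm w
  | [], _ => map_one phi
  | a :: w, h => by
    rw [pw_cons, pw_cons, map_mul, phi_gn (h a List.mem_cons_self),
      phi_pw' (fun b hb => h b (List.mem_cons_of_mem _ hb))]

theorem mv_relator {w : List ℕ} (hw : ∀ a ∈ w, a < 12) (h : offZero w = true)
    (he : Even w.length) (hG : pw gn w = 1) : pw mv w = 1 := by
  refine Equiv.ext fun x => ?_
  rw [pw_mv_apply hw, act_of_zero h he (by rw [← phi_pw' hw, hG, map_one]), Equiv.Perm.one_apply]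

theorem mv_cox {a b : ℕ} (ha : a < 12) (hb : b < 12) :
    (mv a * mv b) ^ (if a = b then 1 else if adjI a b then 3 else 2) = 1 := by
  have hlist := coxWord_eq a ha b hb
  have hG : (gn a * gn b) ^ (if a = b then 1 else if adjI a b then 3 else 2) = 1 := by
    by_cases h : a = b
    · rw [if_pos h, pow_one, h, gn_mul_self]
    · rw [if_neg h]; exact gn_cox ha hb h
  have hpw : ∀ {H : Type} [Group H] (f : ℕ → H), pw f (coxWord a b) =
      (f a * f b) ^ (if a = b then 1 else if adjI a b then 3 else 2) := fun f => by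
    rw [hlist, pw_replicate, pw_cons, pw_cons, pw_nil, mul_one]
  rw [← hpw]
  refine mv_relator ?_ (coxWord_zero ha hb) ?_ ((hpw gn).trans hG)
  · rw [hlist]
    intro c hc
    obtain ⟨l, hl, hc'⟩ := List.mem_flatten.1 hc
    rw [List.eq_of_mem_replicate hl] at hc'
    simp at hc'
    rcases hc' with rfl | rfl <;> assumption
  · rw [hlist]
    split_ifs <;> simp [List.length_flatten, parity_simps]

theorem sevenWord_eq : sevenWord = 0 :: (List.replicate 9 [10, 7, 6, 5, 4, 3, 2]).flatten := by
  decide +kernel

theorem mv_seven : pw mv [2, 3, 4, 5, 6, 7, 10] ^ 9 = mv 0 := by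
  have hinv : ∀ (H : Type) [Group H] (f : ℕ → H), (∀ g, f g * f g = 1) → pw f sevenWord =
      f 0 * (pw f [2, 3, 4, 5, 6, 7, 10] ^ 9)⁻¹ := by
    intro H _ f hf
    have hi : ∀ g, (f g)⁻¹ = f g := fun g => inv_eq_of_mul_eq_one_right (hf g)
    rw [sevenWord_eq, pw_cons, pw_replicate, ← inv_pow]
    simp [pw, hi, mul_assoc]
  have hsq : ∀ g, mv g * mv g = 1 := fun g => Equiv.ext fun x => by
    show move (idx (genOf g)) (move (idx (genOf g)) x) = x
    exact move_move (idx_lt _) x
  have h := mv_relator (w := sevenWord) (by rw [sevenWord_eq]; decide) seven_ok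
    (by rw [sevenWord_eq]; decide)
    (by rw [hinv _ gn gn_mul_self, pw_l_eq, mul_inv_cancel])
  rw [hinv _ mv hsq, mul_inv_eq_one] at h
  exact h.symm

/-- the relations of Y542 and of the E7 word hold on the three copies -/
theorem move3_rel (x z : Cfsg.Spor.Fi24.Gen) :
    (move3 x * move3 z) ^ Cfsg.Spor.coxLabel Cfsg.Spor.Fi24.edges x z = 1 := by
  have h := mv_cox (idx_lt x) (idx_lt z)
  rw [coxLabel_eq]
  rwa [show mv (idx x) = move3 x from congrArg move3 (genOf_idx x),
    show mv (idx z) = move3 z from congrArg move3 (genOf_idx z)] at h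

/-- the spider word as a list -/
def spiderList : List ℕ :=
  (List.replicate 17 [5, 4, 3, 2, 1, 0, 5, 6, 7, 8, 9, 5, 10, 11]).flatten

theorem spiderList_eq :
    copies [5, 4, 3, 2, 1, 0, 5, 6, 7, 8, 9, 5, 10, 11] 17 = spiderList := by
  decide +kernel

/-- the spider word translates every fibre -/
theorem spider_apply (x : Pt3) : pw mv spiderList x = (x.1, x.2 - 1) := by
  obtain ⟨p, m, e, -, hact⟩ := offs_spec spiderList
  have h := spider_ok
  rw [spiderCheck, spiderList_eq, e, both_eq, Bool.and_eq_true] at h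
  have hp0 : p = 0 := Nat.eq_of_beq_eq_true h.1
  have hmF : m = sys.full := Nat.eq_of_beq_eq_true h.2
  rw [hp0, hmF] at hact
  obtain ⟨i, s⟩ := x
  have hw : ∀ a ∈ spiderList, a < 12 := by decide +kernel
  have hG : pw gn spiderList = 1 := by
    rw [spiderList, pw_replicate, ← z_eq]
    simp only [pw, List.map_cons, List.map_nil, List.prod_cons, List.prod_nil, mul_one, mul_assoc]
  have he : Even spiderList.length := by decide +kernel
  rw [pw_mv_apply hw, hact, ← phi_pw' hw, hG, map_one, Equiv.Perm.one_apply, he.neg_one_pow,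
    one_mul, testBit_full, decide_eq_true i.2, Nat.zero_testBit]
  simp [val3, sub_eq_add_neg]

end Cfsg.Agent.Lib.Fi24Cover5
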