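import Mathlib
import Cfsg.Prelude.Def_KGroupFacts
import Cfsg.Agent.Lib.CosetTable.Lanes.Fi24.Simple
import Cfsg.Agent.Lib.Fi24Cover5.Model

/-!
The triple cover of the derived group of the presented Fi24.
-/

set_option autoImplicit false
set_option maxRecDepth 100000

namespace Cfsg.Agent.Lib.Fi24Cover5

open Cfsg.Agent.Lib.CosetTable.Lanes Cfsg.Agent.Lib.CosetTable.Lanes.Fi24
open scoped commutatorElement

/-- pairs of a permutation of the three copies and an element of Fi24 -/
abbrev Amb : Type := Equiv.Perm Pt3 × Cfsg.Spor.Fi24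

theorem derived_perfect : ⁅commutator Cfsg.Spor.Fi24, commutator Cfsg.Spor.Fi24⁆ =
    commutator Cfsg.Spor.Fi24 := by
  refine le_antisymm (Subgroup.commutator_le_self _) (normal_cases _ fun h => ?_)
  haveI := derived_simple
  have hcomm : ∀ a b : Cfsg.Spor.Fi24', a * b = b * a := fun a b => by
    have hm : ⁅(a : Cfsg.Spor.Fi24), (b : Cfsg.Spor.Fi24)⁆ ∈
        ⁅commutator Cfsg.Spor.Fi24, commutator Cfsg.Spor.Fi24⁆ :=
      Subgroup.commutator_mem_commutator a.2 b.2
    rw [h, Subgroup.mem_bot, commutatorElement_eq_one_iff_mul_comm] at hm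
    exact Subtype.ext hm
  letI : CommGroup Cfsg.Spor.Fi24' :=
    { (inferInstance : Group Cfsg.Spor.Fi24') with mul_comm := hcomm }
  haveI : Finite Cfsg.Spor.Fi24' := Finite.of_injective _ Subtype.val_injective
  have hp := IsSimpleGroup.prime_card (α := Cfsg.Spor.Fi24')
  rw [card_derived] at hp
  exact absurd hp (by norm_num)

/-- a node in both groups -/
noncomputable def node3 (g : ℕ) : Amb := (mv g, gn g)

/-- the triple cover of Fi24 -/
noncomputable def cover3 : Subgroup Amb := Subgroup.closure (node3 '' {g | g < 12})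

theorem node3_mem {g : ℕ} (hg : g < 12) : node3 g ∈ cover3 :=
  Subgroup.subset_closure ⟨g, hg, rfl⟩

theorem mv_mul_self (g : ℕ) : mv g * mv g = 1 := Equiv.ext fun x => move_move (idx_lt _) x

theorem node3_sq (g : ℕ) : node3 g * node3 g = 1 :=
  Prod.ext (mv_mul_self g) (gn_mul_self g)

theorem node3_inv (g : ℕ) : (node3 g)⁻¹ = node3 g := inv_eq_of_mul_eq_one_right (node3_sq g)

/-- the translation of every fibre -/
noncomputable def deck : Equiv.Perm Pt3 where
  toFun x := (x.1, x.2 - 1)
  invFun x := (x.1, x.2 + 1)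
  left_inv x := by simp
  right_inv x := by simp

/-- the kernel element -/
noncomputable def zed : Amb := (deck, 1)

theorem zed_eq_pw : pw node3 spiderList = zed := by
  have h : ∀ w : List ℕ, pw node3 w = (pw mv w, pw gn w) := by
    intro w
    induction w with
    | nil => rfl
    | cons a w ih => rw [pw_cons, ih, pw_cons, pw_cons]; rfl
  rw [h, zed]
  refine Prod.ext (Equiv.ext fun x => (spider_apply x).trans rfl) ?_
  show pw gn spiderList = 1
  rw [spiderList, pw_replicate, ← z_eq]
  simp only [pw, List.map_cons, List.map_nil, List.prod_cons, List.prod_nil, mul_one, mul_assoc]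

theorem zed_mem : zed ∈ cover3 := by
  rw [← zed_eq_pw]
  refine list_prod_mem fun x hx => ?_
  obtain ⟨g, hg, rfl⟩ := List.mem_map.1 hx
  exact node3_mem ((by decide +kernel : ∀ a ∈ spiderList, a < 12) g hg)

theorem zed_cube : zed ^ 3 = 1 := by
  refine Prod.ext (Equiv.ext fun x => ?_) (one_pow 3)
  show (deck ^ 3) x = x
  refine Prod.ext rfl ?_
  show x.2 - 1 - 1 - 1 = x.2
  have : ∀ s : ZMod 3, s - 1 - 1 - 1 = s := by decide
  exact this _

theorem zed_ne_one : zed ≠ 1 := by
  intro h
  have h1 := congrArg (fun p : Amb => (p.1 (⟨base, base_lt⟩, 0)).2) h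
  exact absurd h1 (show ((0 : ZMod 3) - 1 ≠ 0) by decide)

theorem orderOf_zed : orderOf zed = 3 := orderOf_eq_prime zed_cube zed_ne_one

theorem node3_zed {g : ℕ} (hg : g < 12) : node3 g * zed * node3 g = zed⁻¹ := by
  refine Prod.ext (Equiv.ext fun x => ?_) ?_
  · show mv g (deck (mv g x)) = deck.symm x
    rw [mv_apply hg, mv_apply hg]
    show move g ((move g x).1, (move g x).2 - 1) = (x.1, x.2 + 1)
    have h := move_move hg x
    have h1 : perm g (perm g x.1) = x.1 := congrArg Prod.fst h
    have h2 : volt g (perm g x.1).val - (volt g x.1.val - x.2) = x.2 := congrArg Prod.snd h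
    refine Prod.ext h1 ?_
    show volt g (perm g x.1).val - (volt g x.1.val - x.2 - 1) = x.2 + 1
    rw [show volt g (perm g x.1).val - (volt g x.1.val - x.2 - 1) =
      volt g (perm g x.1).val - (volt g x.1.val - x.2) + 1 by ring, h2]
  · show gn g * 1 * gn g = (1 : Cfsg.Spor.Fi24)⁻¹
    rw [mul_one, gn_mul_self, inv_one]

theorem conj_zed {e : Amb} (he : e ∈ cover3) : e * zed * e⁻¹ = zed ∨ e * zed * e⁻¹ = zed⁻¹ := by
  induction he using Subgroup.closure_induction'' with
  | one => simp
  | mem x hx => obtain ⟨g, hg, rfl⟩ := hx; right; rw [node3_inv, node3_zed hg]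
  | inv_mem x hx =>
    obtain ⟨g, hg, rfl⟩ := hx
    right
    rw [inv_inv, node3_inv, node3_zed hg]
  | mul u v _ _ hu hv =>
    have e : u * v * zed * (u * v)⁻¹ = u * (v * zed * v⁻¹) * u⁻¹ := by group
    rw [e]
    rcases hv with h | h <;> rw [h]
    · exact hu
    · rw [show u * zed⁻¹ * u⁻¹ = (u * zed * u⁻¹)⁻¹ by group]
      rcases hu with h | h <;> rw [h] <;> simp

/-- the kernel inside the cover -/
noncomputable def zsub : Subgroup cover3 := Subgroup.zpowers ⟨zed, zed_mem⟩

instance zsub_normal : zsub.Normal := by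
  refine ⟨fun n hn g => ?_⟩
  obtain ⟨k, rfl⟩ := Subgroup.mem_zpowers_iff.1 hn
  rw [← conj_zpow]
  refine Subgroup.zpow_mem _ ?_ k
  rcases conj_zed g.2 with h | h
  · rw [show g * (⟨zed, zed_mem⟩ : cover3) * g⁻¹ = ⟨zed, zed_mem⟩ from Subtype.ext h]
    exact Subgroup.mem_zpowers _
  · rw [show g * (⟨zed, zed_mem⟩ : cover3) * g⁻¹ = ⟨zed, zed_mem⟩⁻¹ from Subtype.ext h]
    exact inv_mem (Subgroup.mem_zpowers _)

/-- a node in the quotient of the cover -/
noncomputable def node3' (x : Cfsg.Spor.Fi24.Gen) : cover3 :=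
  ⟨node3 (idx x), node3_mem (idx_lt x)⟩

theorem cover_rel (r : FreeGroup Cfsg.Spor.Fi24.Gen)
    (hr : r ∈ Cfsg.Spor.coxRelators Cfsg.Spor.Fi24.edges ∪ {r | r ∈ Cfsg.Spor.Fi24.extra}) :
    FreeGroup.lift (fun x => QuotientGroup.mk' zsub (node3' x)) r = 1 := by
  rcases hr with ⟨x, _, z, _, rfl⟩ | hr
  · simp only [map_pow, map_mul, FreeGroup.lift_apply_of]
    rw [← map_mul, ← map_pow]
    refine (congrArg _ (Subtype.ext ?_)).trans (map_one _)
    refine Prod.ext ?_ ?_
    · show (mv (idx x) * mv (idx z)) ^ _ = 1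
      rw [show mv (idx x) = move3 x from congrArg move3 (genOf_idx x),
        show mv (idx z) = move3 z from congrArg move3 (genOf_idx z)]
      exact move3_rel x z
    · show (gn (idx x) * gn (idx z)) ^ _ = 1
      rw [coxLabel_eq]
      by_cases h : idx x = idx z
      · rw [if_pos h, pow_one, h, gn_mul_self]
      · rw [if_neg h]; exact gn_cox (idx_lt x) (idx_lt z) h
  · simp only [Cfsg.Spor.Fi24.extra, Set.mem_ofPred_eq, List.mem_cons, List.not_mem_nil,
      or_false] at hr
    rcases hr with rfl | rfl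
    · simp only [map_mul, map_inv, map_pow, FreeGroup.lift_apply_of]
      simp only [← map_mul, ← map_pow, ← map_inv]
      refine (congrArg _ (Subtype.ext ?_)).trans (map_one _)
      refine Prod.ext ?_ ?_
      · show mv 0 * ((mv 2 * mv 3 * mv 4 * mv 5 * mv 6 * mv 7 * mv 10) ^ 9)⁻¹ = 1
        rw [mul_inv_eq_one, ← mv_seven]
        simp only [pw, List.map_cons, List.map_nil, List.prod_cons, List.prod_nil, mul_one,
          mul_assoc]
      · show gn 0 * ((gn 2 * gn 3 * gn 4 * gn 5 * gn 6 * gn 7 * gn 10) ^ 9)⁻¹ = 1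
        rw [mul_inv_eq_one, l_eq]
    · simp only [map_mul, map_pow, FreeGroup.lift_apply_of]
      simp only [← map_mul, ← map_pow]
      refine (QuotientGroup.eq_one_iff _).2 ?_
      refine Subgroup.mem_zpowers_iff.2 ⟨1, (zpow_one _).trans (Subtype.ext ?_)⟩
      show zed = (node3 5 * node3 4 * node3 3 * node3 2 * node3 1 * node3 0 * node3 5 * node3 6 *
        node3 7 * node3 8 * node3 9 * node3 5 * node3 10 * node3 11) ^ 17
      rw [← zed_eq_pw, spiderList, pw_replicate]
      simp only [pw, List.map_cons, List.map_nil, List.prod_cons, List.prod_nil, mul_one,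
        mul_assoc]

theorem ker_snd {e : Amb} (he : e ∈ cover3) (h : e.2 = 1) : e ∈ Subgroup.zpowers zed := by
  have key : ∀ e (he : e ∈ cover3),
      PresentedGroup.toGroup cover_rel e.2 = QuotientGroup.mk' zsub ⟨e, he⟩ := by
    intro e he
    induction he using Subgroup.closure_induction with
    | mem x hx =>
      obtain ⟨g, hg, rfl⟩ := hx
      show PresentedGroup.toGroup cover_rel (gn g) = _
      rw [gn, PresentedGroup.toGroup.of]
      have hi : idx (genOf g) = g := (by decide : ∀ g < 12, idx (genOf g) = g) g hg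
      exact congrArg _ (Subtype.ext (congrArg node3 hi))
    | one => exact (map_one _).trans (map_one (QuotientGroup.mk' zsub)).symm
    | mul u v hu hv e1 e2 =>
      rw [Prod.snd_mul, map_mul, e1, e2, ← map_mul]; rfl
    | inv u hu e1 => rw [Prod.snd_inv, map_inv, e1, ← map_inv]; rfl
  have h1 := key e he
  rw [h, map_one] at h1
  obtain ⟨k, hk⟩ := Subgroup.mem_zpowers_iff.1 ((QuotientGroup.eq_one_iff (N := zsub) _).1 h1.symm)
  exact Subgroup.mem_zpowers_iff.2 ⟨k, congrArg Subtype.val hk⟩

/-- the triple cover of the derived group -/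
noncomputable def coverDer : Subgroup Amb := ⁅cover3, cover3⁆

theorem coverDer_le : coverDer ≤ cover3 := Subgroup.commutator_le_self cover3

theorem cover3_snd : cover3.map (MonoidHom.snd _ _) = ⊤ := by
  rw [cover3, MonoidHom.map_closure, ← Set.image_comp]
  exact (congrArg Subgroup.closure (Set.image_congr fun g _ => rfl)).trans pw_gn_top

theorem coverDer_snd : coverDer.map (MonoidHom.snd _ _) = commutator Cfsg.Spor.Fi24 := by
  rw [coverDer, Subgroup.map_commutator, cover3_snd]; rfl

/-- the covering map -/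
noncomputable def sigma3 : coverDer →* Cfsg.Spor.Fi24' :=
  ((MonoidHom.snd _ _).comp coverDer.subtype).codRestrict (commutator Cfsg.Spor.Fi24)
    fun e => coverDer_snd ▸ Subgroup.mem_map_of_mem _ e.2

theorem sigma3_surj : Function.Surjective sigma3 := by
  rintro ⟨x, hx⟩
  rw [← coverDer_snd] at hx
  obtain ⟨e, he, rfl⟩ := hx
  exact ⟨⟨e, he⟩, rfl⟩

theorem zed_mem_der : zed ∈ coverDer := by
  have h : ⁅zed⁻¹, node3 0⁆ ∈ coverDer :=
    Subgroup.commutator_mem_commutator (inv_mem zed_mem) (node3_mem (by decide))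
  have e : ⁅zed⁻¹, node3 0⁆ = zed := by
    rw [commutatorElement_def, inv_inv, node3_inv, mul_assoc zed⁻¹, mul_assoc zed⁻¹,
      node3_zed (by decide), ← mul_inv_rev, ← pow_two]
    refine inv_eq_of_mul_eq_one_right ?_
    rw [← pow_succ, zed_cube]
  rwa [e] at h

theorem zed_central {e : Amb} (he : e ∈ coverDer) : e * zed = zed * e := by
  have key : ∀ e ∈ coverDer, e ∈ Subgroup.centralizer ({zed} : Set Amb) := by
    show coverDer ≤ _
    rw [coverDer, Subgroup.commutator_le]
    intro a ha b hb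
    rw [Subgroup.mem_centralizer_singleton_iff, ← mul_inv_eq_iff_eq_mul]
    have c : ∀ u : Amb, u * zed * u⁻¹ = zed ∨ u * zed * u⁻¹ = zed⁻¹ →
        (u⁻¹ * zed * u⁻¹⁻¹ = u * zed * u⁻¹) := by
      intro u hu
      rcases hu with h | h
      · rw [h, inv_inv]
        calc u⁻¹ * zed * u = u⁻¹ * (u * zed * u⁻¹) * u := by rw [h]
          _ = zed := by group
      · rw [h, inv_inv]
        calc u⁻¹ * zed * u = (u⁻¹ * (u * zed * u⁻¹) * u)⁻¹ := by rw [h]; group
          _ = zed⁻¹ := by group
    have ca := conj_zed ha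
    have cb := conj_zed hb
    rw [commutatorElement_def]
    rw [show a * b * a⁻¹ * b⁻¹ * zed * (a * b * a⁻¹ * b⁻¹)⁻¹ =
      a * (b * (a⁻¹ * (b⁻¹ * zed * b⁻¹⁻¹) * a⁻¹⁻¹) * b⁻¹) * a⁻¹ by group, c b cb]
    rcases ca with h1 | h1 <;> rcases cb with h2 | h2
    · rw [h2, c a (Or.inl h1), h1, h2, h1]
    · rw [h2, show a⁻¹ * zed⁻¹ * a⁻¹⁻¹ = (a⁻¹ * zed * a⁻¹⁻¹)⁻¹ by group, c a (Or.inl h1), h1,
        show b * zed⁻¹ * b⁻¹ = (b * zed * b⁻¹)⁻¹ by group, h2, inv_inv, h1]
    · rw [h2, c a (Or.inr h1), h1, show b * zed⁻¹ * b⁻¹ = (b * zed * b⁻¹)⁻¹ by group, h2,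
        show a * zed⁻¹ * a⁻¹ = (a * zed * a⁻¹)⁻¹ by group, h1, inv_inv]
    · rw [h2, show a⁻¹ * zed⁻¹ * a⁻¹⁻¹ = (a⁻¹ * zed * a⁻¹⁻¹)⁻¹ by group, c a (Or.inr h1), h1,
        inv_inv, h2, show a * zed⁻¹ * a⁻¹ = (a * zed * a⁻¹)⁻¹ by group, h1, inv_inv]
  exact (Subgroup.mem_centralizer_singleton_iff.1 (key e he))

theorem mem_ker_sigma3 {e : coverDer} : e ∈ sigma3.ker ↔ (e : Amb) ∈ Subgroup.zpowers zed := by
  constructor
  · intro h
    exact ker_snd (coverDer_le e.2) (congrArg Subtype.val (MonoidHom.mem_ker.1 h))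
  · intro h
    obtain ⟨k, hk⟩ := Subgroup.mem_zpowers_iff.1 h
    refine MonoidHom.mem_ker.2 (Subtype.ext ?_)
    show (e : Amb).2 = 1
    rw [← hk, Prod.pow_snd]
    exact one_zpow k

theorem zed_mem_derived2 : zed ∈ ⁅coverDer, coverDer⁆ := by
  set D := ⁅coverDer, coverDer⁆ with hD
  by_contra hz
  have hperf : D.map (MonoidHom.snd _ _) = commutator Cfsg.Spor.Fi24 := by
    rw [hD, Subgroup.map_commutator, coverDer_snd]
    exact derived_perfect
  -- two commuting nodes agree modulo `D`
  have hpair : ∀ a b, a < 12 → b < 12 → commB a b = true → node3 a * node3 b ∈ D := by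
    intro a b ha hb hab
    have hc : mv a * mv b = mv b * mv a := by
      have hne := mv_cox ha hb
      by_cases h : a = b
      · rw [h]
      · rw [if_neg h] at hne
        have : adjI a b = false := by
          simp only [commB, Bool.and_eq_true, Bool.not_eq_true'] at hab
          exact hab.2
        rw [if_neg (by simp [this]), pow_two, ← eq_inv_iff_mul_eq_one, mul_inv_rev,
          inv_eq_of_mul_eq_one_right (mv_mul_self a),
          inv_eq_of_mul_eq_one_right (mv_mul_self b)] at hne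
        exact hne
    have hsq : (node3 a * node3 b) * (node3 a * node3 b) = 1 := by
      have : node3 b * node3 a = node3 a * node3 b := Prod.ext hc.symm (gn_comm a b hab).symm
      nth_rw 1 [← this]
      rw [mul_assoc, ← mul_assoc (node3 a), node3_sq, one_mul, node3_sq]
    have hout : gn a * gn b ∈ commutator Cfsg.Spor.Fi24 := by
      rcases derived_dichotomy (gn a * gn b) with h | h
      · exact h
      · exfalso
        have h' := MonoidHom.mem_ker.1 (commutator_le_ker h)
        rw [map_mul, map_mul, sgn_gn, sgn_gn, sgn_gn] at h'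
        exact absurd h' (by decide)
    rw [← hperf] at hout
    obtain ⟨d, hd, hde⟩ := hout
    have hdc : d ∈ cover3 := coverDer_le (Subgroup.commutator_le_self coverDer hd)
    obtain ⟨k, hk⟩ := Subgroup.mem_zpowers_iff.1 (ker_snd
      (mul_mem (inv_mem hdc) (mul_mem (node3_mem ha) (node3_mem hb))) (by
        show (d.2)⁻¹ * (gn a * gn b) = 1
        rw [show d.2 = gn a * gn b from hde, inv_mul_cancel]))
    have hab2 : node3 a * node3 b = d * zed ^ k := by rw [hk, mul_inv_cancel_left]
    rcases (show k % 3 = 0 ∨ k % 3 = 1 ∨ k % 3 = 2 by omega) with h | h | h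
    all_goals
      have hk3 : zed ^ k = zed ^ (k % 3) := by
        rw [show (3 : ℤ) = (orderOf zed : ℤ) by rw [orderOf_zed]; rfl, zpow_mod_orderOf]
      rw [hk3, h] at hab2
    · rw [hab2, zpow_zero, mul_one]; exact hd
    all_goals
      exfalso
      rw [hab2] at hsq
      have hdz : d * zed = zed * d := zed_central (Subgroup.commutator_le_self coverDer hd)
    · rw [zpow_one, mul_assoc, ← mul_assoc zed, ← hdz, mul_assoc, ← mul_assoc d] at hsq
      refine hz ?_
      have h2 : zed * zed = (d * d)⁻¹ := eq_inv_of_mul_eq_one_right hsq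
      have h3 : zed = (zed * zed)⁻¹ := eq_inv_of_mul_eq_one_left (by
        rw [← mul_assoc, ← pow_two, ← pow_succ, zed_cube])
      rw [h3, h2, inv_inv]
      exact mul_mem hd hd
    · have h3 : zed ^ (2 : ℤ) = zed⁻¹ := by
        refine eq_inv_of_mul_eq_one_left ?_
        rw [zpow_two, ← pow_two, ← pow_succ, zed_cube]
      have hdi : d * zed⁻¹ = zed⁻¹ * d := (Commute.inv_right (show Commute d zed from hdz)).eq
      rw [h3, mul_assoc, ← mul_assoc zed⁻¹, ← hdi, mul_assoc, ← mul_assoc d] at hsq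
      refine hz ?_
      have h2 : zed⁻¹ * zed⁻¹ = (d * d)⁻¹ := eq_inv_of_mul_eq_one_right hsq
      have h4 : zed = zed⁻¹ * zed⁻¹ := by
        rw [← mul_inv_rev]
        refine eq_inv_of_mul_eq_one_left ?_
        rw [← mul_assoc, ← pow_two, ← pow_succ, zed_cube]
      rw [h4, h2]
      exact inv_mem (mul_mem hd hd)
  -- so all nodes agree with `l`
  have hrel : ∀ g, g < 12 → node3 g * node3 0 ∈ D := by
    intro g hg
    by_cases h1 : g = 1
    · subst h1
      have e : node3 1 * node3 0 = (node3 1 * node3 3) * (node3 3 * node3 0) := by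
        rw [mul_assoc, ← mul_assoc (node3 3), node3_sq, one_mul]
      rw [e]
      exact mul_mem (hpair 1 3 (by decide) (by decide) (by decide))
        (hpair 3 0 (by decide) (by decide) (by decide))
    · refine hpair g 0 hg (by decide) ?_
      revert g
      decide
  have hnorm : ∀ e ∈ cover3, ∀ d ∈ D, e * d * e⁻¹ ∈ D := by
    intro e he d hd
    have : D.map (MulAut.conj e).toMonoidHom = D := by
      rw [hD, Subgroup.map_commutator]
      have h1 : coverDer.map (MulAut.conj e).toMonoidHom = coverDer := by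
        rw [coverDer, Subgroup.map_commutator]
        have h2 : cover3.map (MulAut.conj e).toMonoidHom = cover3 := by
          refine le_antisymm ?_ fun x hx => ⟨e⁻¹ * x * e, mul_mem (mul_mem (inv_mem he) hx) he, ?_⟩
          · rintro _ ⟨x, hx, rfl⟩
            exact mul_mem (mul_mem he hx) (inv_mem he)
          · show e * (e⁻¹ * x * e) * e⁻¹ = x
            group
        rw [h2]
      rw [h1]
    rw [← this]
    exact ⟨d, hd, rfl⟩
  have hmod : ∀ e ∈ cover3, ∃ d ∈ D, e = d ∨ e = d * node3 0 := by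
    intro e he
    induction he using Subgroup.closure_induction'' with
    | one => exact ⟨1, one_mem _, Or.inl rfl⟩
    | mem x hx =>
      obtain ⟨g, hg, rfl⟩ := hx
      exact ⟨_, hrel g hg, Or.inr (by rw [mul_assoc, node3_sq, mul_one])⟩
    | inv_mem x hx =>
      obtain ⟨g, hg, rfl⟩ := hx
      exact ⟨_, hrel g hg, Or.inr (by rw [node3_inv, mul_assoc, node3_sq, mul_one])⟩
    | mul u v _ _ hu hv =>
      obtain ⟨d, hd, hu⟩ := hu
      obtain ⟨d', hd', hv⟩ := hv
      have hd'' : node3 0 * d' * (node3 0)⁻¹ ∈ D := hnorm _ (node3_mem (by decide)) d' hd'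
      rcases hu with rfl | rfl <;> rcases hv with rfl | rfl
      · exact ⟨_, mul_mem hd hd', Or.inl rfl⟩
      · exact ⟨_, mul_mem hd hd', Or.inr (by rw [mul_assoc])⟩
      · exact ⟨_, mul_mem hd hd'', Or.inr (by group)⟩
      · refine ⟨_, mul_mem hd hd'', Or.inl ?_⟩
        rw [node3_inv]
        simp only [mul_assoc]
  obtain ⟨d, hd, h⟩ := hmod zed zed_mem
  rcases h with h | h
  · exact hz (h ▸ hd)
  · have h2 := congrArg Prod.snd h
    have hd2 : d.2 ∈ commutator Cfsg.Spor.Fi24 := hperf ▸ Subgroup.mem_map_of_mem _ hd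
    have h' := MonoidHom.mem_ker.1 (commutator_le_ker hd2)
    have : sgn (1 : Cfsg.Spor.Fi24) = sgn (d.2 * gn 0) := congrArg sgn h2
    rw [map_one, map_mul, sgn_gn, h', one_mul] at this
    exact absurd this (by decide)

theorem sigma3_stem : Cfsg.IsStemExtension sigma3 := by
  refine ⟨sigma3_surj, fun e he => ?_, fun e he => ?_⟩
  · obtain ⟨k, hk⟩ := Subgroup.mem_zpowers_iff.1 (mem_ker_sigma3.1 he)
    refine Subgroup.mem_center_iff.2 fun d => Subtype.ext ?_
    show (d : Amb) * e = e * d
    rw [← hk]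
    exact ((show Commute (d : Amb) zed from zed_central d.2).zpow_right k).eq
  · obtain ⟨k, hk⟩ := Subgroup.mem_zpowers_iff.1 (mem_ker_sigma3.1 he)
    have hz : (⟨zed, zed_mem_der⟩ : coverDer) ∈ commutator coverDer := by
      have h := zed_mem_derived2
      rw [← Subgroup.map_subtype_commutator coverDer] at h
      obtain ⟨z, hz, hz'⟩ := h
      rwa [show z = ⟨zed, zed_mem_der⟩ from Subtype.ext hz'] at hz
    have : e = (⟨zed, zed_mem_der⟩ : coverDer) ^ k := Subtype.ext hk.symm
    rw [this]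
    exact Subgroup.zpow_mem _ hz k

theorem card_ker_sigma3 : Nat.card sigma3.ker = 3 := by
  have : sigma3.ker = Subgroup.zpowers (⟨zed, zed_mem_der⟩ : coverDer) := by
    ext e
    rw [mem_ker_sigma3, Subgroup.mem_zpowers_iff, Subgroup.mem_zpowers_iff]
    exact exists_congr fun k => ⟨fun h => Subtype.ext h, fun h => congrArg Subtype.val h⟩
  rw [this, Nat.card_zpowers, ← Subgroup.orderOf_coe, orderOf_zed]

/-- a stem extension of Fi24' with kernel of order three -/
theorem exists_triple_cover : ∃ (Γ : Type) (_ : Group Γ) (_ : Finite Γ) (σ : Γ →* Cfsg.Spor.Fi24'),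
    Cfsg.IsStemExtension σ ∧ Nonempty (σ.ker ≃* Multiplicative (ZMod 3)) :=
  ⟨coverDer, inferInstance, inferInstance, sigma3, sigma3_stem,
    haveI : Fact (Nat.Prime 3) := ⟨Nat.prime_three⟩
    ⟨mulEquivOfPrimeCardEq (p := 3) card_ker_sigma3 (by simp)⟩⟩

end Cfsg.Agent.Lib.Fi24Cover5
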