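import Mathlib
import Cfsg.Agent.Lib.Fi24Cover5.Bound
import Cfsg.Agent.Lib.CosetTable.Lanes.Fi24.Structure

/-!
The kernel is cyclic of order dividing three.
-/

set_option autoImplicit false
set_option maxRecDepth 100000

namespace Cfsg.Agent.Lib.Fi24Cover5

open Cfsg.Agent.Lib.CosetTable.Lanes Cfsg.Agent.Lib.CosetTable.Lanes.Fi24

/-- what a moving step needs -/
def stepB : Bool × ℕ × ℕ → Bool
  | (false, a, b) => commB a b
  | (true, a, b) => Nat.blt a 12 && Nat.blt b 12 && adjI a b && !Nat.beq a b

theorem stepB_ops : signOps.all stepB = true := by decide +kernel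

theorem seedPath_lt : ∀ g ∈ seedPath, g < 12 := by decide

section

variable {E : Type*} [Group E] {π : E →* Cfsg.Spor.Fi24} {y : ℕ → E} (hL : Lifted π y)
variable {Q : Type*} [MulAction E Q] {c : ℕ → Q}

/-- the bit vectors hold lanes where the generators act by `t` -/
def Signed (y : ℕ → E) (c : ℕ → Q) (t : E) (P : List ℕ) : Prop :=
  ∀ g i, i < sys.size → (getK P g).testBit i = true → y g • c i = t • c i

theorem Signed.add {t : E} {P : List ℕ} (h : Signed y c t P) {a v : ℕ}
    (hv : ∀ i, i < sys.size → v.testBit i = true → y a • c i = t • c i) :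
    Signed y c t (orList P a v) := by
  intro g i hi hb
  rw [getK_orList] at hb
  split at hb
  next hg =>
    rw [Nat.testBit_or, Bool.or_eq_true] at hb
    rcases hb with hb | hb
    · exact h g i hi hb
    · rw [hg.1]; exact hv i hi hb
  next => exact h g i hi hb

theorem along_spec {K : List ℕ} (hK : KOK sys y c K) {b X i : ℕ} (hi : i < sys.size)
    (hb : (alongK sys K b X).testBit i = true) :
    sys.pos b i < sys.size ∧ X.testBit (sys.pos b i) = true ∧ y b • c (sys.pos b i) = c i := by
  rw [alongK, Sys.testBit_route valid] at hb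
  have hlt := Sys.pos_lt valid b hi
  replace hb : (X &&& getK K b).testBit (sys.pos b i) = true := hb
  rw [Nat.testBit_and, Bool.and_eq_true] at hb
  refine ⟨hlt, hb.1, ?_⟩
  have h := hK b _ hlt hb.2
  unfold Known at h
  rwa [pos_invol b i hi] at h

include hL in
theorem comm_move {K : List ℕ} (hK : KOK sys y c K) {t : E} {M : List ℕ}
    (hM : Signed y c t⁻¹ M) (hinvt : ∀ g, g < 12 → y g * t⁻¹ = t * y g) {a b : ℕ}
    (hab : commB a b = true) :
    ∀ i, i < sys.size → (alongK sys K b (getK M a)).testBit i = true → y a • c i = t • c i := by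
  intro i hi hb
  obtain ⟨hlt, hM', hstep⟩ := along_spec hK hi hb
  have hb12 : b < 12 := by
    simp only [commB, Bool.and_eq_true, Nat.blt_eq] at hab
    exact hab.1.2
  rw [← hstep, smul_smul, hL.comm a b hab, ← smul_smul, hM a _ hlt hM', smul_smul,
    hinvt b hb12, ← smul_smul]

include hL in
theorem braid_move {K : List ℕ} (hK : KOK sys y c K) {t : E} {P : List ℕ}
    (hP : Signed y c t P) (hinvt : ∀ g, g < 12 → y g * t = t⁻¹ * y g)
    (hinvt' : ∀ g, g < 12 → y g * t⁻¹ = t * y g) {a b : ℕ}
    (hab : stepB (true, a, b) = true) :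
    ∀ i, i < sys.size → (alongK sys K a (alongK sys K b (getK P a))).testBit i = true →
      y b • c i = t • c i := by
  intro i hi hb
  simp only [stepB, Bool.and_eq_true, Nat.blt_eq, Bool.not_eq_true'] at hab
  obtain ⟨⟨⟨ha12, hb12⟩, hadj⟩, hne⟩ := hab
  have hne' : a ≠ b := fun e => by subst e; rw [Nat.beq_refl] at hne; simp at hne
  obtain ⟨hlt, hX, h1⟩ := along_spec hK hi hb
  obtain ⟨hlt', hP', h2⟩ := along_spec hK hlt hX
  have e1 : y b * (y a * y b) = y a * y b * y a := by
    rw [← mul_assoc, ← hL.braid a b ha12 hb12 hadj hne']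
  have e2 : y a * y b * t = t * (y a * y b) := by
    rw [mul_assoc, hinvt b hb12, ← mul_assoc, hinvt' a ha12, mul_assoc]
  have e3 : (y a * y b) • c (sys.pos b (sys.pos a i)) = c i := by rw [mul_smul, h2, h1]
  calc y b • c i = y b • (y a * y b) • c (sys.pos b (sys.pos a i)) := by rw [e3]
    _ = (y a * y b) • y a • c (sys.pos b (sys.pos a i)) := by rw [← mul_smul, e1, mul_smul]
    _ = t • c i := by rw [hP a _ hlt' hP', ← mul_smul, e2, mul_smul, e3]

theorem signStep_false (S : Sys) (K : List ℕ) (a b : ℕ) (P M : List ℕ)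
    (k : List ℕ → List ℕ → Bool) :
    signStep S K (false, a, b) P M k =
      k (orList P a (alongK S K b (getK M a))) (orList M a (alongK S K b (getK P a))) := by
  simp only [signStep, strict_eq, orAt_eq]

theorem signStep_true (S : Sys) (K : List ℕ) (a b : ℕ) (P M : List ℕ)
    (k : List ℕ → List ℕ → Bool) :
    signStep S K (true, a, b) P M k =
      k (orList P b (alongK S K a (alongK S K b (getK P a))))
        (orList M b (alongK S K a (alongK S K b (getK M a)))) := by
  simp only [signStep, strict_eq, orAt_eq]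

theorem signGo_cons (S : Sys) (K : List ℕ) (o : Bool × ℕ × ℕ) (os : List (Bool × ℕ × ℕ))
    (P M : List ℕ) (k : List ℕ → List ℕ → Bool) :
    signGo S K (o :: os) P M k = signStep S K o P M fun P' M' => signGo S K os P' M' k := rfl

include hL in
theorem signGo_sound {K : List ℕ} (hK : KOK sys y c K) {t : E}
    (hinvt : ∀ g, g < 12 → y g * t = t⁻¹ * y g) :
    ∀ (os : List (Bool × ℕ × ℕ)), os.all stepB = true → ∀ P M, Signed y c t P →
      Signed y c t⁻¹ M → ∃ P' M', (∀ k, signGo sys K os P M k = k P' M') ∧
        Signed y c t P' ∧ Signed y c t⁻¹ M' := by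
  have hinvt' : ∀ g, g < 12 → y g * t⁻¹ = t * y g := fun g hg => by
    calc y g * t⁻¹ = (y g * t⁻¹ * y g) * y g := by rw [mul_assoc _ (y g) (y g), hL.sq, mul_one]
      _ = t * y g := by
        congr 1
        calc y g * t⁻¹ * y g = y g * (t⁻¹ * y g) := mul_assoc _ _ _
          _ = y g * (y g * t) := by rw [← hinvt g hg]
          _ = t := by rw [← mul_assoc, hL.sq, one_mul]
  intro os
  induction os with
  | nil => exact fun _ P M hP hM => ⟨P, M, fun k => rfl, hP, hM⟩
  | cons o os ih =>
    intro h P M hP hM
    simp only [List.all_cons, Bool.and_eq_true] at h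
    obtain ⟨ho, hos⟩ := h
    have hi : ∀ g, g < 12 → y g * t⁻¹⁻¹ = t⁻¹ * y g := by simpa using hinvt
    obtain ⟨kind, a, b⟩ := o
    cases kind with
    | false =>
      have hP1 := hP.add (comm_move hL hK hM hinvt' (a := a) (b := b) ho)
      have hM1 := hM.add (comm_move hL hK (t := t⁻¹) (by simpa using hP) hi (a := a) (b := b) ho)
      obtain ⟨P', M', e, r⟩ := ih hos _ _ hP1 hM1
      exact ⟨P', M', fun k => by rw [signGo_cons, signStep_false]; exact e k, r⟩
    | true =>
      have hP1 := hP.add (braid_move hL hK hP hinvt hinvt' (a := a) (b := b) ho)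
      have hM1 := hM.add (braid_move hL hK hM
        (fun g hg => by simpa using hinvt' g hg) hi (a := a) (b := b) ho)
      obtain ⟨P', M', e, r⟩ := ih hos _ _ hP1 hM1
      exact ⟨P', M', fun k => by rw [signGo_cons, signStep_true]; exact e k, r⟩

theorem walkOK_cons (S : Sys) (K : List ℕ) (g : ℕ) (w : List ℕ) (x z : ℕ) :
    walkOK S K (g :: w) x z = both (Nat.beq (Nat.land x (getK K g)) x)
      (strict (S.route g x) fun x' => walkOK S K w x' z) := rfl

theorem testBit_single {i j : ℕ} (h : (Nat.shiftLeft 1 j).testBit i = true) : i = j := by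
  have h' : (2 ^ j).testBit i = true := by rw [← Nat.one_shiftLeft]; exact h
  rw [Nat.testBit_two_pow] at h'
  exact (of_decide_eq_true h').symm

theorem testBit_single_self (j : ℕ) : (Nat.shiftLeft 1 j).testBit j = true := by
  show (1 <<< j).testBit j = true
  rw [Nat.one_shiftLeft, Nat.testBit_two_pow_self]

theorem walk_sound {K : List ℕ} (hK : KOK sys y c K) : ∀ (w : List ℕ) (i x z : ℕ),
    i < sys.size → x.testBit i = true → walkOK sys K w x z = true →
      ∃ j, j < sys.size ∧ z.testBit j = true ∧ wprod y w • c i = c j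
  | [], i, x, z, hi, hx, h => by
    obtain rfl := Nat.eq_of_beq_eq_true (show Nat.beq x z = true from h)
    exact ⟨i, hi, hx, by rw [wprod, one_smul]⟩
  | g :: w, i, x, z, hi, hx, h => by
    rw [walkOK_cons, both_eq, Bool.and_eq_true, strict_eq] at h
    have e : x &&& getK K g = x := Nat.eq_of_beq_eq_true h.1
    have hk : (getK K g).testBit i = true := by
      have := hx
      rw [← e, Nat.testBit_and, Bool.and_eq_true] at this
      exact this.2
    have hlt := Sys.pos_lt valid g hi
    obtain ⟨j, hj, hz, hw⟩ := walk_sound hK w _ _ z hlt (by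
      rw [Sys.testBit_route valid, pos_invol g i hi]; exact hx) h.2
    refine ⟨j, hj, hz, ?_⟩
    rw [wprod, ← smul_smul, hK g i hi hk, hw]

end

section

variable {E : Type*} [Group E] {π : E →* Cfsg.Spor.Fi24} {y : ℕ → E} (hL : Lifted π y)
include hL

theorem map_sub' : (sub' y).map π = sub := by
  rw [sub', MonoidHom.map_closure, sub, ← Set.image_comp]
  exact congrArg Subgroup.closure (Set.image_congr fun g _ => hL.proj g)

/-- an element of the kernel fixing a coset of `sub'` is trivial -/
theorem eq_one_of_fix {v : E} (hv : v ∈ π.ker) {q : E ⧸ sub' y} (h : v • q = q) : v = 1 := by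
  induction q using QuotientGroup.induction_on with
  | _ w =>
    rw [MulAction.Quotient.smul_mk, smul_eq_mul, QuotientGroup.eq] at h
    have hm : w⁻¹ * v * w ∈ sub' y := by
      have := inv_mem h
      simpa [mul_assoc] using this
    have hk : w⁻¹ * v * w ∈ π.ker := by
      simpa using (MonoidHom.normal_ker π).conj_mem v hv w⁻¹
    have h1 : w⁻¹ * v * w ∈ sub' y ⊓ π.ker := ⟨hm, hk⟩
    rw [hL.meet, Subgroup.mem_bot] at h1
    calc v = w * (w⁻¹ * v * w) * w⁻¹ := by group
      _ = 1 := by rw [h1]; group

/-- the kernel is generated by an element of order dividing three, inverted by the generators -/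
theorem exists_gen_ker : ∃ t : E, t ∈ π.ker ∧ t ^ 3 = 1 ∧
    (∀ g, g < 12 → y g * t * y g = t⁻¹) ∧ π.ker ≤ Subgroup.zpowers t := by
  obtain ⟨c, hc, hK18⟩ := exists_labels' hL
  have hclose := goodB'_ops
  simp only [List.all_append, Bool.and_eq_true] at hclose
  obtain ⟨K, e, hK⟩ := runOps_sound valid hL.sq (goods hL hclose.2) hK18
  have hchk := sign_ok
  rw [signCheck, e, both_eq, Bool.and_eq_true, seedOK, both_eq, Bool.and_eq_true, both_eq,
    Bool.and_eq_true, both_eq, Bool.and_eq_true] at hchk
  obtain ⟨⟨hwalk, hfix, hnb, hknown⟩, hgo⟩ := hchk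
  have hlane : seedLane < sys.size := by rw [size_eq]; decide
  obtain ⟨j, -, hj', hwc⟩ :=
    walk_sound hK seedPath base _ _ base_lt (testBit_single_self base) hwalk
  obtain rfl := testBit_single hj'
  set w := wprod y seedPath with hw
  have hci : c seedLane = (w : E ⧸ sub' y) := by
    rw [← hwc, hc, MulAction.Quotient.smul_mk, smul_eq_mul, mul_one]
  have posfix : ∀ g, Nat.beq (sys.route g (Nat.shiftLeft 1 seedLane))
      (Nat.shiftLeft 1 seedLane) = true → sys.pos g seedLane = seedLane := by
    intro g h
    have hb := testBit_single_self seedLane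
    rw [← Nat.eq_of_beq_eq_true h, Sys.testBit_route valid] at hb
    exact testBit_single hb
  -- the seed
  have hwphi : (phi (π w) pt).val = seedLane := by
    have hwv : ∀ (v : List ℕ) (i : Fin sys.size), (∀ g ∈ v, g < 12) →
        ((phi (π (wprod y v))) i).val = wpos sys v i.val := by
      intro v i hv
      have hπv : π (wprod y v) = wprod gn v := by
        clear hv
        induction v with
        | nil => exact map_one π
        | cons a v ih => simp only [wprod, map_mul, ih, hL.proj]
      rw [hπv, wpos_eq v hv i]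
    rw [hw, hwv _ _ seedPath_lt]
    have key : ∀ (v : List ℕ) (x z i : ℕ), i < sys.size → x.testBit i = true →
        walkOK sys K v x z = true → z.testBit (wpos sys v i) = true := by
      intro v
      induction v with
      | nil =>
        intro x z i _ hx h
        obtain rfl := Nat.eq_of_beq_eq_true (show Nat.beq x z = true from h)
        exact hx
      | cons g v ih =>
        intro x z i hi hx h
        rw [walkOK_cons, both_eq, Bool.and_eq_true, strict_eq] at h
        exact ih _ z _ (Sys.pos_lt valid g hi) (by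
          rw [Sys.testBit_route valid, pos_invol g i hi]; exact hx) h.2
    exact testBit_single (key seedPath _ _ base base_lt (testBit_single_self base) hwalk)
  have hsub : π (w⁻¹ * y seedGen * w) ∈ sub := by
    have hp : phi (π w) pt = ⟨seedLane, hlane⟩ := Fin.ext hwphi
    rw [mem_sub_iff, map_mul, map_mul, map_mul, map_mul, map_inv, map_inv, hL.proj,
      Equiv.Perm.mul_apply, Equiv.Perm.mul_apply, hp, phi_gn (by decide),
      Equiv.Perm.inv_def, Equiv.symm_apply_eq, hp]
    exact Fin.ext ((perm_val _ _).trans (posfix _ hfix))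
  rw [← map_sub' hL] at hsub
  obtain ⟨h, hh, hπh⟩ := hsub
  set z := w⁻¹ * y seedGen * w * h⁻¹ with hz
  have hzker : z ∈ π.ker := by
    rw [MonoidHom.mem_ker, hz, map_mul, map_inv, hπh, mul_inv_cancel]
  set t := w * z * w⁻¹ with ht
  have htker : t ∈ π.ker := (MonoidHom.normal_ker π).conj_mem z hzker w
  have hseed : y seedGen • c seedLane = t • c seedLane := by
    rw [hci, MulAction.Quotient.smul_mk, MulAction.Quotient.smul_mk, QuotientGroup.eq, smul_eq_mul,
      smul_eq_mul, ht, hz]
    have : (y seedGen * w)⁻¹ * (w * (w⁻¹ * y seedGen * w * h⁻¹) * w⁻¹ * w) = h⁻¹ := by group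
    rw [this]
    exact inv_mem hh
  clear_value t
  have hinv0 : y seedGen * t * y seedGen = t⁻¹ := by
    have h2 : (y seedGen * t * y seedGen * t) • c seedLane = c seedLane := by
      rw [mul_smul _ t, ← hseed, ← mul_smul, mul_assoc _ (y seedGen), hL.sq, mul_one, mul_smul,
        ← hseed, ← mul_smul, hL.sq, one_smul]
    refine eq_inv_of_mul_eq_one_left (eq_one_of_fix hL (mul_mem ?_ htker) h2)
    have := (MonoidHom.normal_ker π).conj_mem t htker (y seedGen)
    rwa [inv_gen hL] at this
  have hconj : ∀ g, g < 12 → y g * t * y g = t⁻¹ := fun g hg => by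
    rw [hL.sigma g seedGen hg (by decide) t htker, hinv0]
  have hinvt : ∀ g, g < 12 → y g * t = t⁻¹ * y g := fun g hg => by
    rw [← hconj g hg, mul_assoc (y g * t), hL.sq, mul_one]
  have hinvt' : ∀ g, g < 12 → y g * t⁻¹ = t * y g := fun g hg => by
    calc y g * t⁻¹ = y g * (y g * t * y g) := by rw [hconj g hg]
      _ = t * y g := by rw [← mul_assoc, ← mul_assoc, hL.sq, one_mul]
  -- order three
  have ht3 : t ^ 3 = 1 := by
    refine eq_one_of_fix hL (pow_mem htker 3) (q := c seedLane) ?_
    have hb : y seedNb • c seedLane = c seedLane := by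
      have hk : (getK K seedNb).testBit seedLane = true := by
        have := testBit_single_self seedLane
        rw [← Nat.eq_of_beq_eq_true hknown] at this
        change ((Nat.shiftLeft 1 seedLane) &&& getK K seedNb).testBit seedLane = true at this
        rw [Nat.testBit_and, Bool.and_eq_true] at this
        exact this.2
      have h := hK seedNb seedLane hlane hk
      rw [Known, posfix _ hnb] at h
      exact h
    have hbr := hL.braid seedGen seedNb (by decide) (by decide) (by decide) (by decide)
    have l1 : (y seedGen * y seedNb * y seedGen) • c seedLane = (t * t) • c seedLane := by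
      rw [mul_smul, hseed, ← mul_smul, mul_assoc, hinvt seedNb (by decide), ← mul_assoc,
        hinvt' seedGen (by decide), mul_assoc, mul_smul, mul_smul, hb, hseed, ← mul_smul]
    have l2 : (y seedNb * y seedGen * y seedNb) • c seedLane = t⁻¹ • c seedLane := by
      rw [mul_smul, hb, mul_smul, hseed, ← mul_smul, hinvt seedNb (by decide), mul_smul, hb]
    rw [hbr, l2] at l1
    calc t ^ 3 • c seedLane = t • (t * t) • c seedLane := by
          rw [smul_smul, pow_succ, pow_two, mul_assoc]
      _ = c seedLane := by rw [← l1, smul_inv_smul]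
  -- the signs
  have hP0 : Signed y c t seedP := by
    intro g i _ hb
    obtain ⟨rfl, rfl⟩ : g = seedGen ∧ i = seedLane := by
      rcases g with _ | _ | _ | _ | _ | _ | _ | _ | _ | _ | _ | _ | g <;>
        simp only [seedP, getK_cons_succ, getK_cons_zero, getK_nil, Nat.zero_testBit,
          Bool.false_eq_true] at hb
      exact ⟨rfl, testBit_single hb⟩
    exact hseed
  have hM0 : Signed y c t⁻¹ seedM := by
    intro g i _ hb
    rcases g with _ | _ | _ | _ | _ | _ | _ | _ | _ | _ | _ | _ | g <;>
      simp [seedM, getK_cons_succ, getK_cons_zero, getK_nil] at hb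
  obtain ⟨P, M, e', hP, hM⟩ := signGo_sound hL hK hinvt signOps stepB_ops _ _ hP0 hM0
  rw [e', coverOK, allB_iff] at hgo
  have hstep : ∀ g, g < 12 → ∀ i, i < sys.size → ∀ s : ℤ,
      ∃ (j : ℕ) (r : ℤ), j < sys.size ∧ y g • (t ^ s • c i) = t ^ r • c j := by
    intro g hg i hi s
    have hgs : y g * t ^ s = t ^ (-s) * y g := by
      have h : SemiconjBy (y g) t t⁻¹ := hinvt g hg
      have := h.zpow_right s
      rwa [inv_zpow, ← zpow_neg] at this
    have hcov := hgo g (by
      rcases g with _ | _ | _ | _ | _ | _ | _ | _ | _ | _ | _ | _ | g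
      all_goals first | omega | simp)
    have hbit : ((getK K g) ||| ((getK P g) ||| (getK M g))).testBit i = true := by
      rw [show (getK K g) ||| ((getK P g) ||| (getK M g)) = sys.full from
        Nat.eq_of_beq_eq_true hcov, testBit_full, decide_eq_true hi]
    rw [Nat.testBit_or, Nat.testBit_or, Bool.or_eq_true, Bool.or_eq_true] at hbit
    rw [smul_smul, hgs, ← smul_smul]
    rcases hbit with h | h | h
    · exact ⟨_, -s, Sys.pos_lt valid g hi, by rw [hK g i hi h]⟩
    · refine ⟨i, -s + 1, hi, ?_⟩
      rw [hP g i hi h, smul_smul, zpow_add_one]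
    · refine ⟨i, -s - 1, hi, ?_⟩
      rw [hM g i hi h, smul_smul, zpow_sub_one]
  have hall : ∀ x : E, ∀ i, i < sys.size → ∀ s : ℤ,
      ∃ (j : ℕ) (r : ℤ), j < sys.size ∧ x • (t ^ s • c i) = t ^ r • c j := by
    intro x
    have hx : x ∈ Subgroup.closure (y '' {g | g < 12}) := hL.gen ▸ Subgroup.mem_top x
    induction hx using Subgroup.closure_induction'' with
    | one => exact fun i hi s => ⟨i, s, hi, one_smul _ _⟩
    | mem z hz => obtain ⟨g, hg, rfl⟩ := hz; exact hstep g hg
    | inv_mem z hz => obtain ⟨g, hg, rfl⟩ := hz; rw [inv_gen hL]; exact hstep g hg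
    | mul u v _ _ hu hv =>
      intro i hi s
      obtain ⟨j, r, hj, e1⟩ := hv i hi s
      obtain ⟨j', r', hj', e2⟩ := hu j hj r
      exact ⟨j', r', hj', by rw [mul_smul, e1, e2]⟩
  refine ⟨t, htker, ht3, hconj, fun v hv => ?_⟩
  obtain ⟨j, r, hj, e1⟩ := hall v base base_lt 0
  rw [zpow_zero, one_smul] at e1
  -- project to the lanes
  let pr : E ⧸ sub' y → Fin sys.size :=
    Quotient.lift (fun x => phi (π x) pt) (by
      intro a b hab
      have hs : π (a⁻¹ * b) ∈ sub := by
        rw [← map_sub' hL]; exact ⟨_, QuotientGroup.leftRel_apply.1 hab, rfl⟩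
      have h := sub_fix hs
      rw [map_mul, map_inv, map_mul, map_inv, Equiv.Perm.mul_apply, Equiv.Perm.inv_eq_iff_eq] at h
      exact h.symm)
  have hpr : ∀ (x : E) (q : E ⧸ sub' y), pr (x • q) = phi (π x) (pr q) := by
    intro x q
    induction q using QuotientGroup.induction_on with
    | _ a =>
      show phi (π (x * a)) pt = phi (π x) (phi (π a) pt)
      rw [map_mul, map_mul, Equiv.Perm.mul_apply]
  have hker : ∀ x ∈ π.ker, ∀ q : E ⧸ sub' y, pr (x • q) = pr q := fun x hx q => by
    rw [hpr, MonoidHom.mem_ker.1 hx, map_one, Equiv.Perm.one_apply]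
  have hsurj : Function.Surjective fun k : Fin sys.size => pr (c k.val) := by
    intro i
    obtain ⟨x, hx⟩ := reach i
    have hπ : Function.Surjective π := by
      rw [← MonoidHom.range_eq_top, eq_top_iff, ← pw_gn_top, Subgroup.closure_le]
      rintro _ ⟨g, -, rfl⟩
      exact ⟨y g, hL.proj g⟩
    obtain ⟨x', rfl⟩ := hπ x
    obtain ⟨k, s, hk, e2⟩ := hall x' base base_lt 0
    refine ⟨⟨k, hk⟩, ?_⟩
    show pr (c k) = i
    rw [← hker _ (zpow_mem htker s) (c k), ← e2, zpow_zero, one_smul, hpr, hc, ← hx]
    show phi (π x') (phi (π 1) pt) = _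
    rw [map_one, map_one, Equiv.Perm.one_apply]
  have hjb : c j = c base := by
    have e2 : pr (c j) = pr (c base) := by
      rw [← hker _ (zpow_mem htker r) (c j), ← e1, hker v hv]
    have := (Finite.injective_iff_surjective.2 hsurj) (a₁ := ⟨j, hj⟩) (a₂ := ⟨base, base_lt⟩) e2
    exact congrArg c (congrArg Fin.val this)
  have : t ^ (-r) * v = 1 := by
    refine eq_one_of_fix hL (mul_mem (zpow_mem htker _) hv) (q := c base) ?_
    rw [← smul_smul, e1, hjb, smul_smul, ← zpow_add, neg_add_cancel, zpow_zero, one_smul]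
  rw [eq_inv_of_mul_eq_one_right this, ← zpow_neg, neg_neg]
  exact Subgroup.zpow_mem _ (Subgroup.mem_zpowers t) r

end

end Cfsg.Agent.Lib.Fi24Cover5
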