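import Mathlib
import Cfsg.Agent.Lib.Fi23Mult.Main
import Cfsg.Agent.Lib.CosetTable.Lanes.Fi24.Class
import Cfsg.Agent.Lib.Fi24Cover5.Signs
import Cfsg.Agent.Lib.Fi24Cover5.Cover

/-!
In an extension of Fi24 that is central over a perfect preimage of Fi24', the generators have
involutory lifts with all relations of Y542 and of the E7 word: the centraliser of a transposition
is `2 × Fi23`, Fi23 has trivial multiplier, and so it lifts as `2 × Fi23`.
-/

set_option autoImplicit false
set_option maxRecDepth 100000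

namespace Cfsg.Agent.Lib.Fi24Cover5

open Cfsg.Agent.Lib.CosetTable.Lanes Cfsg.Agent.Lib.CosetTable.Lanes.Fi24
open scoped commutatorElement

/-- An extension of Fi24 whose part over Fi24' is a perfect central extension. -/
structure Over {E : Type} [Group E] (π : E →* Cfsg.Spor.Fi24) (T : E) : Prop where
  surj : Function.Surjective π
  t_proj : π T = gn 0
  t_sq : T * T = 1
  central : ∀ z ∈ π.ker, ∀ x ∈ (commutator Cfsg.Spor.Fi24).comap π, Commute z x
  perfect : ⁅(commutator Cfsg.Spor.Fi24).comap π, (commutator Cfsg.Spor.Fi24).comap π⁆ =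
    (commutator Cfsg.Spor.Fi24).comap π

/-- `fi23Sub` is the presented Fi23 -/
theorem exists_fi23_equiv : ∃ e : fi23Sub →* Cfsg.Spor.Fi23, Function.Bijective e := by
  let f : fi23Sub →* Bar :=
    (QuotientGroup.mk' lsub).comp (Subgroup.inclusion (inf_le_left : fi23Sub ≤ sub))
  refine ⟨barEquiv.symm.toMonoidHom.comp f, barEquiv.symm.bijective.comp ⟨?_, ?_⟩⟩
  · refine (injective_iff_map_eq_one f).2 fun x hx => ?_
    rcases mem_lsub ((QuotientGroup.eq_one_iff _).1 hx) with h | h
    · exact Subtype.ext (congrArg Subtype.val h :)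
    · exfalso
      have e : (x : Cfsg.Spor.Fi24) = gn 0 := congrArg Subtype.val h
      exact l_not_derived (e ▸ x.2.2)
  · intro q
    obtain ⟨s, rfl⟩ := QuotientGroup.mk'_surjective lsub q
    rcases derived_dichotomy (s : Cfsg.Spor.Fi24) with h | h
    · exact ⟨⟨s, s.2, h⟩, rfl⟩
    · refine ⟨⟨s * gn 0, mul_mem s.2 hl.2, h⟩, ?_⟩
      show QuotientGroup.mk' lsub (s * hl) = _
      rw [map_mul, show QuotientGroup.mk' lsub hl = 1 from
        (QuotientGroup.eq_one_iff hl).2 (Subgroup.mem_zpowers hl), mul_one]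

theorem fi23Sub_perfect : ⁅fi23Sub, fi23Sub⁆ = fi23Sub := by
  obtain ⟨e, he⟩ := exists_fi23_equiv
  rw [← Subgroup.map_subtype_commutator fi23Sub]
  have h : commutator fi23Sub = ⊤ := by
    have h1 : (commutator fi23Sub).map e = ⊤ := by
      rw [commutator_def, Subgroup.map_commutator, Subgroup.map_top_of_surjective e he.2,
        ← commutator_def, Fi23Mult.commutator_fi23]
    exact Subgroup.map_injective he.1 (h1.trans (Subgroup.map_top_of_surjective e he.2).symm)
  rw [h, ← MonoidHom.range_eq_map, Subgroup.range_subtype]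

section

variable {E : Type} [Group E] {π : E →* Cfsg.Spor.Fi24} {T : E} (hO : Over π T)
include hO

omit hO in
/-- the part over Fi24' -/
noncomputable abbrev even (π : E →* Cfsg.Spor.Fi24) : Subgroup E := (commutator Cfsg.Spor.Fi24).comap π

theorem ker_le_even : π.ker ≤ even π := fun z hz => by
  rw [Subgroup.mem_comap, MonoidHom.mem_ker.1 hz]
  exact one_mem _

/-- the part over the Fi23 in the centraliser of `l` -/
noncomputable abbrev preFi23 (π : E →* Cfsg.Spor.Fi24) : Subgroup E := ⁅fi23Sub.comap π, fi23Sub.comap π⁆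

theorem preFi23_le : preFi23 π ≤ fi23Sub.comap π := Subgroup.commutator_le_self _

theorem preFi23_map : (preFi23 π).map π = fi23Sub := by
  rw [preFi23, Subgroup.map_commutator, Subgroup.map_comap_eq_self_of_surjective hO.surj,
    fi23Sub_perfect]

theorem preFi23_perfect : ⁅preFi23 π, preFi23 π⁆ = preFi23 π := by
  refine le_antisymm (Subgroup.commutator_le_self _) ?_
  rw [preFi23, Subgroup.commutator_le]
  intro a ha b hb
  have hsplit : ∀ x ∈ fi23Sub.comap π, ∃ x' ∈ preFi23 π, ∃ z ∈ π.ker, x = x' * z := by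
    intro x hx
    have hm : π x ∈ (preFi23 π).map π := (preFi23_map hO).symm ▸ hx
    obtain ⟨x', hx', e⟩ := hm
    exact ⟨x', hx', x'⁻¹ * x, by rw [MonoidHom.mem_ker, map_mul, map_inv, e, inv_mul_cancel],
      (mul_inv_cancel_left _ _).symm⟩
  obtain ⟨a', ha', z, hz, rfl⟩ := hsplit a ha
  obtain ⟨b', hb', w, hw, rfl⟩ := hsplit b hb
  have hle : ∀ x ∈ preFi23 π, x ∈ even π := fun x hx => (preFi23_le hO hx).2
  have h1 := hO.central z hz
  have h2 := hO.central w hw
  have e : ⁅a' * z, b' * w⁆ = ⁅a', b'⁆ := by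
    have hbw : b' * w ∈ even π := mul_mem (hle _ hb') (ker_le_even hO hw)
    calc ⁅a' * z, b' * w⁆
        = a' * (z * (b' * w)) * z⁻¹ * a'⁻¹ * (w⁻¹ * b'⁻¹) := by
          rw [commutatorElement_def, mul_inv_rev, mul_inv_rev]; group
      _ = a' * b' * (w * a'⁻¹) * w⁻¹ * b'⁻¹ := by rw [(h1 _ hbw).eq]; group
      _ = ⁅a', b'⁆ := by
          rw [(h2 _ (inv_mem (hle _ ha'))).eq, commutatorElement_def]; group
  rw [e]
  exact Subgroup.commutator_mem_commutator ha' hb'

/-- the lift of Fi23 meets the kernel trivially -/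
theorem preFi23_inj {x : E} (hx : x ∈ preFi23 π) (h : π x = 1) : x = 1 := by
  obtain ⟨e, he⟩ := exists_fi23_equiv
  let f : preFi23 π →* fi23Sub :=
    (π.comp (preFi23 π).subtype).codRestrict fi23Sub fun x => preFi23_le hO x.2
  have hfs : Function.Surjective f := by
    rintro ⟨y, hy⟩
    rw [← preFi23_map hO] at hy
    obtain ⟨x, hx, rfl⟩ := hy
    exact ⟨⟨x, hx⟩, rfl⟩
  have hperf : commutator (preFi23 π) = ⊤ := by
    refine Subgroup.map_injective (preFi23 π).subtype_injective ?_
    rw [Subgroup.map_subtype_commutator, preFi23_perfect hO, ← MonoidHom.range_eq_map,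
      Subgroup.range_subtype]
  have hc : (e.comp f).ker ≤ Subgroup.center (preFi23 π) := by
    intro z hz
    refine Subgroup.mem_center_iff.2 fun y => Subtype.ext ?_
    have h1 : f z = 1 := he.1 ((MonoidHom.mem_ker.1 hz).trans (map_one e).symm)
    exact ((hO.central z (MonoidHom.mem_ker.2 (congrArg Subtype.val h1)) y
      (preFi23_le hO y.2).2).symm).eq
  have hinj := Fi23Mult.injective_of_perfect Fi23Mult.spiderTrivial (π := e.comp f)
    (he.2.comp hfs) hc hperf
  have : (⟨x, hx⟩ : preFi23 π) = 1 := hinj (by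
    rw [map_one, MonoidHom.comp_apply, show f ⟨x, hx⟩ = 1 from Subtype.ext h, map_one])
  exact congrArg Subtype.val this

theorem sigma_even {a : E} (ha : a ∈ even π) {z : E} (hz : z ∈ π.ker) : a * z * a⁻¹ = z := by
  rw [← (hO.central z hz a ha).eq, mul_inv_cancel_right]

/-- an involution over `l` commutes with the lift of Fi23 -/
theorem commute_preFi23 {P : E} (hP : π P = gn 0) {x : E} (hx : x ∈ preFi23 π) :
    Commute P x := by
  have hcomm : ∀ u ∈ fi23Sub.comap π, P * u * P⁻¹ * u⁻¹ ∈ π.ker := by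
    intro u hu
    rw [MonoidHom.mem_ker, map_mul, map_mul, map_mul, map_inv, map_inv, hP,
      gn_zero_comm hu.1]
    group
  suffices h : preFi23 π ≤ Subgroup.centralizer ({P} : Set E) from
    ((Subgroup.mem_centralizer_singleton_iff.1 (h hx)).symm : _)
  rw [preFi23, Subgroup.commutator_le]
  intro a ha b hb
  rw [Subgroup.mem_centralizer_singleton_iff]
  set za := P * a * P⁻¹ * a⁻¹ with hza
  set zb := P * b * P⁻¹ * b⁻¹ with hzb
  have e : P * ⁅a, b⁆ * P⁻¹ = ⁅za * a, zb * b⁆ := by
    rw [hza, hzb, commutatorElement_def, commutatorElement_def]; group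
  have hza' := hcomm a ha
  have hzb' := hcomm b hb
  rw [← hza] at hza'
  rw [← hzb] at hzb'
  have e2 : ⁅za * a, zb * b⁆ = ⁅a, b⁆ := by
    have h1 := hO.central za hza'
    have h2 := hO.central zb hzb'
    have hbb : b ∈ even π := hb.2
    have haa : a ∈ even π := ha.2
    calc ⁅za * a, zb * b⁆ = za * (a * zb) * b * a⁻¹ * za⁻¹ * b⁻¹ * zb⁻¹ := by
          rw [commutatorElement_def]; group
      _ = za * zb * (a * b * a⁻¹ * za⁻¹) * b⁻¹ * zb⁻¹ := by rw [← (h2 a haa).eq]; group
      _ = za * zb * za⁻¹ * (a * b * a⁻¹ * b⁻¹) * zb⁻¹ := by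
          rw [← ((h1 (a * b * a⁻¹) (mul_mem (mul_mem haa hbb) (inv_mem haa))).inv_left).eq]
          group
      _ = ⁅a, b⁆ := by
          rw [(h1 zb (ker_le_even hO hzb')).eq, mul_inv_cancel_right, mul_assoc zb,
            ← ((h2 _ (mul_mem (mul_mem (mul_mem haa hbb) (inv_mem haa)) (inv_mem hbb))).inv_left).eq,
            mul_inv_cancel_left, commutatorElement_def]
  rw [e2] at e
  calc ⁅a, b⁆ * P = P * ⁅a, b⁆ * P⁻¹ * P := by rw [e]
    _ = P * ⁅a, b⁆ := inv_mul_cancel_right _ _

/-- lift of the centraliser of a conjugate `x` of `l` through a given involution over `x` -/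
theorem exists_section {g P : E} (hP : π P = π g * gn 0 * (π g)⁻¹) (hsq : P * P = 1) :
    ∃ H : Subgroup E, P ∈ H ∧ (∀ h ∈ H, Commute P h) ∧ (∀ h ∈ H, π h = 1 → h = 1) ∧
      H.map π = sub.map (MulAut.conj (π g)).toMonoidHom := by
  set Q := g⁻¹ * P * g with hQ
  have hQp : π Q = gn 0 := by
    rw [hQ, map_mul, map_mul, map_inv, hP]; group
  have hQsq : Q * Q = 1 := by
    rw [hQ, show g⁻¹ * P * g * (g⁻¹ * P * g) = g⁻¹ * (P * P) * g by group, hsq]; group
  have hQinv : Q⁻¹ = Q := inv_eq_of_mul_eq_one_right hQsq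
  let H0 : Subgroup E :=
    { carrier := {h | ∃ x ∈ preFi23 π, h = x ∨ h = x * Q}
      one_mem' := ⟨1, one_mem _, Or.inl rfl⟩
      mul_mem' := by
        rintro a b ⟨x, hx, ha⟩ ⟨y, hy, hb⟩
        refine ⟨x * y, mul_mem hx hy, ?_⟩
        have hc := (commute_preFi23 hO hQp hy).eq
        rcases ha with rfl | rfl <;> rcases hb with rfl | rfl
        · exact Or.inl rfl
        · exact Or.inr (mul_assoc _ _ _).symm
        · exact Or.inr (by rw [mul_assoc, hc, ← mul_assoc])
        · refine Or.inl ?_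
          rw [mul_assoc, ← mul_assoc Q y, hc, mul_assoc y, hQsq, mul_one]
      inv_mem' := by
        rintro a ⟨x, hx, ha⟩
        refine ⟨x⁻¹, inv_mem hx, ?_⟩
        rcases ha with rfl | rfl
        · exact Or.inl rfl
        · right
          rw [mul_inv_rev, hQinv, ((commute_preFi23 hO hQp hx).inv_right).eq] }
  have hmem : ∀ h, h ∈ H0 ↔ ∃ x ∈ preFi23 π, h = x ∨ h = x * Q := fun h => Iff.rfl
  refine ⟨H0.map (MulAut.conj g).toMonoidHom, ⟨Q, (hmem _).2 ⟨1, one_mem _, Or.inr (one_mul _).symm⟩,
    by show g * Q * g⁻¹ = P; rw [hQ]; group⟩, ?_, ?_, ?_⟩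
  · rintro _ ⟨h, hh, rfl⟩
    obtain ⟨x, hx, hh⟩ := (hmem h).1 hh
    have hc : Commute Q h := by
      rcases hh with rfl | rfl
      · exact commute_preFi23 hO hQp hx
      · exact (commute_preFi23 hO hQp hx).mul_right (Commute.refl Q)
    have := hc.map (MulAut.conj g).toMonoidHom
    rwa [show (MulAut.conj g).toMonoidHom Q = P by show g * Q * g⁻¹ = P; rw [hQ]; group] at this
  · rintro _ ⟨h, hh, rfl⟩ h1
    have h1' : π h = 1 := by
      have : π g * π h * (π g)⁻¹ = 1 := by
        rw [← map_inv, ← map_mul, ← map_mul]; exact h1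
      calc π h = (π g)⁻¹ * (π g * π h * (π g)⁻¹) * π g := by group
        _ = 1 := by rw [this]; group
    obtain ⟨x, hx, hh⟩ := (hmem h).1 hh
    rcases hh with rfl | rfl
    · rw [preFi23_inj hO hx h1', map_one]
    · exfalso
      rw [map_mul, hQp] at h1'
      refine l_not_derived ?_
      rw [eq_inv_of_mul_eq_one_right h1']
      exact inv_mem (preFi23_le hO hx).2
  · rw [Subgroup.map_map, show π.comp (MulAut.conj g).toMonoidHom =
      (MulAut.conj (π g)).toMonoidHom.comp π from MonoidHom.ext fun x => by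
        show π (g * x * g⁻¹) = π g * π x * (π g)⁻¹
        rw [map_mul, map_mul, map_inv], ← Subgroup.map_map]
    congr 1
    refine le_antisymm ?_ ?_
    · rintro _ ⟨h, hh, rfl⟩
      obtain ⟨x, hx, hh⟩ := (hmem h).1 hh
      have hxs : π x ∈ sub := (preFi23_le hO hx).1
      rcases hh with rfl | rfl
      · exact hxs
      · rw [map_mul, hQp]; exact mul_mem hxs hl.2
    · intro s hs
      rcases derived_dichotomy s with h | h
      · have : s ∈ (preFi23 π).map π := (preFi23_map hO).symm ▸ ⟨hs, h⟩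
        obtain ⟨x, hx, rfl⟩ := this
        exact ⟨x, (hmem _).2 ⟨x, hx, Or.inl rfl⟩, rfl⟩
      · have : s * gn 0 ∈ (preFi23 π).map π := (preFi23_map hO).symm ▸ ⟨mul_mem hs hl.2, h⟩
        obtain ⟨x, hx, e⟩ := this
        refine ⟨x * Q, (hmem _).2 ⟨x, hx, Or.inr rfl⟩, ?_⟩
        rw [map_mul, hQp, e, mul_assoc, gn_mul_self, mul_one]

/-- lifts of the nodes commuting with the node `n` -/
theorem exists_node_section {n : ℕ} (hn : n < 12) {P : E} (hP : π P = gn n) (hsq : P * P = 1) :
    ∃ s : ℕ → E, (∀ a, Commute (gn a) (gn n) → π (s a) = gn a ∧ Commute P (s a)) ∧ s n = P ∧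
      (∀ w : List ℕ, ∀ v : List ℕ, (∀ a ∈ w, Commute (gn a) (gn n)) →
        (∀ a ∈ v, Commute (gn a) (gn n)) → pw gn w = pw gn v → pw s w = pw s v) := by
  classical
  obtain ⟨x, hx⟩ := conjL_all n hn
  obtain ⟨g, rfl⟩ := hO.surj x
  obtain ⟨H, hPH, hcP, hinj, hmap⟩ := exists_section hO (g := g) (hP.trans hx) hsq
  have hmem : ∀ a, Commute (gn a) (gn n) → gn a ∈ H.map π := by
    intro a ha
    rw [hmap]
    rw [hx] at ha
    refine ⟨(π g)⁻¹ * gn a * π g, commute_l_iff.1 ?_, ?_⟩
    · show (π g)⁻¹ * gn a * π g * gn 0 = gn 0 * ((π g)⁻¹ * gn a * π g)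
      calc (π g)⁻¹ * gn a * π g * gn 0 = (π g)⁻¹ * (gn a * (π g * gn 0 * (π g)⁻¹)) * π g := by group
        _ = _ := by rw [ha.eq]; group
    · show π g * ((π g)⁻¹ * gn a * π g) * (π g)⁻¹ = gn a
      group
  let s : ℕ → E := fun a => if a = n then P else
    if h : Commute (gn a) (gn n) then (Subgroup.mem_map.1 (hmem a h)).choose else 1
  have hs : ∀ a, Commute (gn a) (gn n) → s a ∈ H ∧ π (s a) = gn a := by
    intro a ha
    by_cases h : a = n
    · subst h; simp only [s, if_true]; exact ⟨hPH, hP⟩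
    · simp only [s, if_neg h, dif_pos ha]
      exact (Subgroup.mem_map.1 (hmem a ha)).choose_spec
  refine ⟨s, fun a ha => ⟨(hs a ha).2, hcP _ (hs a ha).1⟩, if_pos rfl, fun w v hw hv e => ?_⟩
  have hW : ∀ w : List ℕ, (∀ a ∈ w, Commute (gn a) (gn n)) → pw s w ∈ H ∧ π (pw s w) = pw gn w := by
    intro w
    induction w with
    | nil => exact fun _ => ⟨one_mem H, map_one π⟩
    | cons a w ih =>
      intro hw
      obtain ⟨h1, h2⟩ := ih fun b hb => hw b (List.mem_cons_of_mem _ hb)
      obtain ⟨h3, h4⟩ := hs a (hw a List.mem_cons_self)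
      rw [pw_cons, pw_cons, map_mul, h4, h2]
      exact ⟨mul_mem h3 h1, rfl⟩
  refine eq_of_mul_inv_eq_one (hinj _ (mul_mem (hW w hw).1 (inv_mem (hW v hv).1)) ?_)
  rw [map_mul, map_inv, (hW w hw).2, (hW v hv).2, e, mul_inv_cancel]

theorem outer_flip {u : E} (hu : π u ∉ commutator Cfsg.Spor.Fi24) {z : E} (hz : z ∈ π.ker) :
    u * z * u⁻¹ = T * z * T⁻¹ := by
  have hm : T⁻¹ * u ∈ even π := by
    rw [Subgroup.mem_comap, map_mul, map_inv, hO.t_proj, gn_inv]
    rcases derived_dichotomy (π u) with h | h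
    · exact absurd h hu
    · have e : gn 0 * π u = gn 0 * (π u * gn 0) * (gn 0)⁻¹ := by
        rw [gn_inv, mul_assoc, mul_assoc, gn_mul_self, mul_one]
      rw [e]
      exact (inferInstance : (commutator Cfsg.Spor.Fi24).Normal).conj_mem _ h (gn 0)
  calc u * z * u⁻¹ = T * ((T⁻¹ * u) * z * (T⁻¹ * u)⁻¹) * T⁻¹ := by group
    _ = T * z * T⁻¹ := by rw [sigma_even hO hm hz]

omit hO in
theorem gn_not_derived (a : ℕ) : gn a ∉ commutator Cfsg.Spor.Fi24 := fun h => by
  have h' := MonoidHom.mem_ker.1 (commutator_le_ker h)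
  rw [sgn_gn] at h'
  exact absurd h' (by decide)

/-- two lifts of an outer involution commuting with a third involution differ by a central square
root of one -/
theorem diff_spec {a n : ℕ} {x x' P : E} (hx : π x = gn a) (hx' : π x' = gn a) (hP : π P = gn n)
    (hsq : x * x = 1) (hsq' : x' * x' = 1) (hc : Commute P x) (hc' : Commute P x') :
    ∃ z ∈ π.ker, x' = x * z ∧ z * z = 1 ∧ ∀ u, Commute u z := by
  refine ⟨x⁻¹ * x', ?_, (mul_inv_cancel_left _ _).symm, ?_, ?_⟩
  · rw [MonoidHom.mem_ker, map_mul, map_inv, hx, hx', inv_mul_cancel]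
  all_goals set z := x⁻¹ * x' with hzdef
  all_goals
    have hzk : z ∈ π.ker := by
      rw [hzdef, MonoidHom.mem_ker, map_mul, map_inv, hx, hx', inv_mul_cancel]
    have hPz : P * z * P⁻¹ = z := by
      rw [((hc.inv_right).mul_right hc').eq, mul_inv_cancel_right]
    have hT : T * z * T⁻¹ = z := by
      rw [← outer_flip hO (hP ▸ gn_not_derived n) hzk, hPz]
    have hflip : ∀ u, Commute u z := by
      intro u
      show u * z = z * u
      rw [← mul_inv_eq_iff_eq_mul]
      by_cases h : π u ∈ commutator Cfsg.Spor.Fi24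
      · exact sigma_even hO h hzk
      · rw [outer_flip hO h hzk, hT]
  · have hxz : x' = x * z := (mul_inv_cancel_left _ _).symm
    have := hsq'
    rw [hxz, mul_assoc, ← mul_assoc z x z, ← (hflip x).eq, mul_assoc x z z, ← mul_assoc x x,
      hsq, one_mul] at this
    exact this
  · exact hflip

omit hO in
theorem same_shift {x y x' y' z w : E} (hb : x * y * x = y * x * y) (hb' : x' * y' * x' = y' * x' * y')
    (hx : x' = x * z) (hy : y' = y * w) (hz : z * z = 1) (hw : w * w = 1)
    (cz : ∀ u, Commute u z) (cw : ∀ u, Commute u w) : z = w := by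
  have e : ∀ (u v c d : E), (∀ t, Commute t c) → (∀ t, Commute t d) →
      (u * c) * (v * d) * (u * c) = (u * v * u) * (c * d * c) := by
    intro u v c d hc hd
    calc (u * c) * (v * d) * (u * c) = u * (c * v) * (d * u) * c := by group
      _ = u * v * (c * u) * (d * c) := by rw [← (hc v).eq, ← (hd u).eq]; group
      _ = _ := by rw [← (hc u).eq]; group
  rw [hx, hy, e x y z w cz cw, e y x w z cw cz, hb] at hb'
  have h := mul_left_cancel hb'
  rw [(cz w).eq.symm, mul_assoc w z z, hz, mul_one, (cz w).eq, mul_assoc z w w, hw, mul_one] at h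
  exact h.symm

/-- the twelve lifts -/
theorem exists_lifted : ∃ y : ℕ → E, Lifted π y := by
  obtain ⟨s, hs, hs0, hsrel⟩ := exists_node_section hO (n := 0) (by decide) hO.t_proj hO.t_sq
  have hc0 : ∀ a, a < 12 → a ≠ 1 → Commute (gn a) (gn 0) := by
    intro a ha h1
    refine (gn_comm a 0 ?_ : _)
    revert a; decide
  have rel_of : ∀ {n : ℕ} {t : ℕ → E}, (∀ w : List ℕ, ∀ v : List ℕ,
      (∀ a ∈ w, Commute (gn a) (gn n)) → (∀ a ∈ v, Commute (gn a) (gn n)) →
      pw gn w = pw gn v → pw t w = pw t v) → ∀ {a b}, Commute (gn a) (gn n) →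
      Commute (gn b) (gn n) →
      t a * t a = 1 ∧ (Commute (gn a) (gn b) → Commute (t a) (t b)) ∧
        (gn a * gn b * gn a = gn b * gn a * gn b → t a * t b * t a = t b * t a * t b) := by
    intro n t ht a b ha hb
    refine ⟨?_, fun h => ?_, fun h => ?_⟩
    · have := ht [a, a] [] (by simpa using ha) (by simp) (by simp [pw, gn_mul_self])
      simpa [pw] using this
    · have := ht [a, b] [b, a]
        (by intro x hx; simp only [List.mem_cons, List.not_mem_nil, or_false] at hx
            rcases hx with rfl | rfl <;> assumption)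
        (by intro x hx; simp only [List.mem_cons, List.not_mem_nil, or_false] at hx
            rcases hx with rfl | rfl <;> assumption)
        (by simpa [pw] using h.eq)
      show t a * t b = t b * t a
      simpa [pw] using this
    · have := ht [a, b, a] [b, a, b]
        (by intro x hx; simp only [List.mem_cons, List.not_mem_nil, or_false] at hx
            rcases hx with rfl | rfl | rfl <;> assumption)
        (by intro x hx; simp only [List.mem_cons, List.not_mem_nil, or_false] at hx
            rcases hx with rfl | rfl | rfl <;> assumption)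
        (by simpa [pw, mul_assoc] using h)
      simpa [pw, mul_assoc] using this
  have gbraid : ∀ a b, a < 12 → b < 12 → adjI a b = true →
      gn a * gn b * gn a = gn b * gn a * gn b := by
    intro a b ha hb h
    have hne : a ≠ b := fun e => by subst e; revert h; revert a; decide
    conv_rhs => arg 1; arg 1; rw [braid_conj ha hb h hne]
    simp only [mul_inv_rev, gn_inv, mul_assoc]
    simp only [← mul_assoc (gn a) (gn a), ← mul_assoc (gn b) (gn b), gn_mul_self, one_mul, mul_one]
  have ssq : ∀ a, a < 12 → a ≠ 1 → s a * s a = 1 := fun a ha h1 =>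
    (rel_of hsrel (hc0 a ha h1) (hc0 a ha h1)).1
  have sbraid : ∀ a b, a < 12 → b < 12 → a ≠ 1 → b ≠ 1 → adjI a b = true →
      s a * s b * s a = s b * s a * s b := fun a b ha hb a1 b1 h =>
    (rel_of hsrel (hc0 a ha a1) (hc0 b hb b1)).2.2 (gbraid a b ha hb h)
  -- the system of `j`
  have h9 := hs 9 (hc0 9 (by decide) (by decide))
  obtain ⟨u, hu, hu9, hurel⟩ := exists_node_section hO (n := 9) (by decide) h9.1
    (ssq 9 (by decide) (by decide))
  have hc9 : ∀ a, a < 12 → a ≠ 8 → Commute (gn a) (gn 9) := by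
    intro a ha h8
    refine (gn_comm a 9 ?_ : _)
    revert a; decide
  have usq : ∀ a, a < 12 → a ≠ 8 → u a * u a = 1 := fun a ha h8 =>
    (rel_of hurel (hc9 a ha h8) (hc9 a ha h8)).1
  have d9 : ∀ a, a < 12 → a ≠ 1 → a ≠ 8 → ∃ z, s a = u a * z ∧ z * z = 1 ∧ (∀ v, Commute v z) := by
    intro a ha h1 h8
    have hcomm : Commute (s 9) (s a) :=
      (rel_of hsrel (hc0 9 (by decide) (by decide)) (hc0 a ha h1)).2.1 (hc9 a ha h8).symm
    obtain ⟨z, -, e⟩ := diff_spec hO (hu a (hc9 a ha h8)).1 (hs a (hc0 a ha h1)).1 h9.1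
      (usq a ha h8) (ssq a ha h1) (hu a (hc9 a ha h8)).2 hcomm
    exact ⟨z, e.1, e.2⟩
  obtain ⟨z, hz2, hz3, hz4⟩ := d9 2 (by decide) (by decide) (by decide)
  have step9 : ∀ a b, a < 12 → b < 12 → a ≠ 1 → b ≠ 1 → a ≠ 8 → b ≠ 8 → adjI a b = true →
      s a = u a * z → s b = u b * z := by
    intro a b ha hb a1 b1 a8 b8 h hsa
    obtain ⟨w, hw2, hw3, hw4⟩ := d9 b hb b1 b8
    rw [hw2, same_shift ((rel_of hurel (hc9 a ha a8) (hc9 b hb b8)).2.2 (gbraid a b ha hb h))
      (sbraid a b ha hb a1 b1 h) hsa hw2 hz3 hw3 hz4 hw4]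
  have z3 := step9 2 3 (by decide) (by decide) (by decide) (by decide) (by decide) (by decide) (by decide) hz2
  have z4 := step9 3 4 (by decide) (by decide) (by decide) (by decide) (by decide) (by decide) (by decide) z3
  have z5 := step9 4 5 (by decide) (by decide) (by decide) (by decide) (by decide) (by decide) (by decide) z4
  have z6 := step9 5 6 (by decide) (by decide) (by decide) (by decide) (by decide) (by decide) (by decide) z5
  have z7 := step9 6 7 (by decide) (by decide) (by decide) (by decide) (by decide) (by decide) (by decide) z6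
  have z10 := step9 5 10 (by decide) (by decide) (by decide) (by decide) (by decide) (by decide) (by decide) z5
  have z11 := step9 10 11 (by decide) (by decide) (by decide) (by decide) (by decide) (by decide) (by decide) z10
  have seven_s : pw s [2, 3, 4, 5, 6, 7, 10] ^ 9 = s 0 := by
    have := hsrel (List.replicate 9 [2, 3, 4, 5, 6, 7, 10]).flatten [0] (fun a ha => by
      have : ∀ a ∈ (List.replicate 9 [2, 3, 4, 5, 6, 7, 10]).flatten, a < 12 ∧ a ≠ 1 := by decide
      exact hc0 a (this a ha).1 (this a ha).2) (by simp [Commute.refl])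
      (by rw [pw_replicate, pw_l_eq]; exact (mul_one _).symm)
    rwa [pw_replicate, show pw s [0] = s 0 from mul_one _] at this
  have z0 : s 0 = u 0 * z := by
    have hu7 : pw u [2, 3, 4, 5, 6, 7, 10] ^ 9 = u 0 := by
      have := hurel (List.replicate 9 [2, 3, 4, 5, 6, 7, 10]).flatten [0] (fun a ha => by
        have : ∀ a ∈ (List.replicate 9 [2, 3, 4, 5, 6, 7, 10]).flatten, a < 12 ∧ a ≠ 8 := by decide
        exact hc9 a (this a ha).1 (this a ha).2)
        (by simpa using hc9 0 (by decide) (by decide))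
        (by rw [pw_replicate, pw_l_eq]; exact (mul_one _).symm)
      rwa [pw_replicate, show pw u [0] = u 0 from mul_one _] at this
    have e : pw s [2, 3, 4, 5, 6, 7, 10] = pw u [2, 3, 4, 5, 6, 7, 10] * z := by
      have c : ∀ v t : E, v * z * t = v * t * z := fun v t => by
        rw [mul_assoc, ← (hz4 t).eq, ← mul_assoc]
      simp only [pw, List.map_cons, List.map_nil, List.prod_cons, List.prod_nil, mul_one,
        hz2, z3, z4, z5, z6, z7, z10]
      simp only [← mul_assoc, c]
      rw [mul_assoc _ z z, hz3, mul_one, mul_assoc _ z z, hz3, mul_one, mul_assoc _ z z, hz3,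
        mul_one]
    rw [← seven_s, e, ((hz4 _) : Commute _ z).mul_pow, hu7,
      show z ^ 9 = z by
        rw [show (9 : ℕ) = 2 * 4 + 1 from rfl, pow_succ, pow_mul, pow_two, hz3, one_pow, one_mul]]
  let k : E := u 1 * z
  let y0 : ℕ → E := fun a => if a = 1 then k else s a
  have y0_ne : ∀ a, a ≠ 1 → y0 a = s a := fun a h => if_neg h
  have y0_one : y0 1 = k := if_pos rfl
  have hk_proj : π k = gn 1 := by
    show π (u 1 * z) = gn 1
    have hzker : π z = 1 := by
      have := congrArg π hz2
      rw [map_mul, (hu 2 (hc9 2 (by decide) (by decide))).1,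
        (hs 2 (hc0 2 (by decide) (by decide))).1] at this
      exact (left_eq_mul.1 this)
    rw [map_mul, (hu 1 (hc9 1 (by decide) (by decide))).1, hzker, mul_one]
  have ksq : k * k = 1 := by
    show u 1 * z * (u 1 * z) = 1
    rw [mul_assoc, ← mul_assoc z, ← (hz4 (u 1)).eq, mul_assoc (u 1) z z, hz3, mul_one,
      usq 1 (by decide) (by decide)]
  -- braids at `k`
  have shift3 : ∀ p q : E, p * q * p = q * p * q →
      p * z * (q * z) * (p * z) = q * z * (p * z) * (q * z) := by
    intro p q h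
    have c : ∀ v t : E, v * z * t = v * t * z := fun v t => by
      rw [mul_assoc, ← (hz4 t).eq, ← mul_assoc]
    simp only [← mul_assoc, c]
    rw [h]
  have k0 : k * s 0 * k = s 0 * k * s 0 := by
    rw [z0]
    exact shift3 _ _ ((rel_of hurel (hc9 1 (by decide) (by decide)) (hc9 0 (by decide)
      (by decide))).2.2 (gbraid 1 0 (by decide) (by decide) (by decide)))
  have k2 : k * s 2 * k = s 2 * k * s 2 := by
    rw [hz2]
    exact shift3 _ _ ((rel_of hurel (hc9 1 (by decide) (by decide)) (hc9 2 (by decide)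
      (by decide))).2.2 (gbraid 1 2 (by decide) (by decide) (by decide)))
  have kc : ∀ b, b < 12 → b ≠ 8 → s b = u b * z → commB 1 b = true → Commute k (s b) := by
    intro b hb h8 e h
    rw [e]
    have := (rel_of hurel (hc9 1 (by decide) (by decide)) (hc9 b hb h8)).2.1 (gn_comm 1 b h)
    exact ((this.mul_right (hz4 _)).mul_left ((hz4 (u b)).symm.mul_right (Commute.refl z)))
  have k9 : Commute k (s 9) :=
    ((hu 1 (hc9 1 (by decide) (by decide))).2.symm).mul_left (hz4 (s 9)).symm
  have k11 := kc 11 (by decide) (by decide) z11 (by decide)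
  -- the system of `i`
  have h11 := hs 11 (hc0 11 (by decide) (by decide))
  obtain ⟨v, hv, hv11, hvrel⟩ := exists_node_section hO (n := 11) (by decide) h11.1
    (ssq 11 (by decide) (by decide))
  have hc11 : ∀ a, a < 10 → Commute (gn a) (gn 11) := by
    intro a ha
    refine (gn_comm a 11 ?_ : _)
    revert a; decide
  have vsq : ∀ a, a < 10 → v a * v a = 1 := fun a ha =>
    (rel_of hvrel (hc11 a ha) (hc11 a ha)).1
  have y0sq : ∀ a, a < 12 → y0 a * y0 a = 1 := by
    intro a ha
    by_cases h : a = 1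
    · rw [h, y0_one, ksq]
    · rw [y0_ne a h, ssq a ha h]
  have y0proj : ∀ a, a < 12 → π (y0 a) = gn a := by
    intro a ha
    by_cases h : a = 1
    · rw [h, y0_one, hk_proj]
    · rw [y0_ne a h]; exact (hs a (hc0 a ha h)).1
  have d11 : ∀ a, a < 10 → ∃ w, y0 a = v a * w ∧ w * w = 1 ∧ (∀ q, Commute q w) := by
    intro a ha
    have hc : Commute (s 11) (y0 a) := by
      by_cases h : a = 1
      · rw [h, y0_one]; exact k11.symm
      · rw [y0_ne a h]
        exact (rel_of hsrel (hc0 11 (by decide) (by decide)) (hc0 a (by omega) h)).2.1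
          (hc11 a ha).symm
    obtain ⟨w, -, e⟩ := diff_spec hO (hv a (hc11 a ha)).1 (y0proj a (by omega)) h11.1
      (vsq a ha) (y0sq a (by omega)) (hv a (hc11 a ha)).2 hc
    exact ⟨w, e.1, e.2⟩
  have y0braid : ∀ a b, a < 12 → b < 12 → adjI a b = true →
      y0 a * y0 b * y0 a = y0 b * y0 a * y0 b := by
    intro a b ha hb h
    by_cases ea : a = 1
    · subst ea
      have : b = 0 ∨ b = 2 := by revert b; decide
      rcases this with rfl | rfl
      · rw [y0_one, y0_ne 0 (by decide)]; exact k0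
      · rw [y0_one, y0_ne 2 (by decide)]; exact k2
    · by_cases eb : b = 1
      · subst eb
        have : a = 0 ∨ a = 2 := by revert a; decide
        rcases this with rfl | rfl
        · rw [y0_one, y0_ne 0 (by decide)]; exact k0.symm
        · rw [y0_one, y0_ne 2 (by decide)]; exact k2.symm
      · rw [y0_ne a ea, y0_ne b eb]; exact sbraid a b ha hb ea eb h
  obtain ⟨w, w1, w3, w4⟩ := d11 1 (by decide)
  have step11 : ∀ a b, a < 10 → b < 10 → adjI a b = true → y0 a = v a * w → y0 b = v b * w := by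
    intro a b ha hb h hya
    obtain ⟨w', q2, q3, q4⟩ := d11 b hb
    rw [q2, same_shift ((rel_of hvrel (hc11 a ha) (hc11 b hb)).2.2
      (gbraid a b (by omega) (by omega) h)) (y0braid a b (by omega) (by omega) h) hya q2 w3 q3 w4 q4]
  have w2 := step11 1 2 (by decide) (by decide) (by decide) w1
  have w3' := step11 2 3 (by decide) (by decide) (by decide) w2
  have w4' := step11 3 4 (by decide) (by decide) (by decide) w3'
  have w5 := step11 4 5 (by decide) (by decide) (by decide) w4'
  have w6 := step11 5 6 (by decide) (by decide) (by decide) w5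
  have w7 := step11 6 7 (by decide) (by decide) (by decide) w6
  have w8 := step11 7 8 (by decide) (by decide) (by decide) w7
  have k8 : Commute k (s 8) := by
    have := (rel_of hvrel (hc11 1 (by decide)) (hc11 8 (by decide))).2.1
      (gn_comm 1 8 (by decide))
    have h2 := (this.mul_right (w4 _)).mul_left ((w4 (v 8)).symm.mul_right (Commute.refl w))
    rw [← w1, ← w8, y0_one, y0_ne 8 (by decide)] at h2
    exact h2
  have y0comm : ∀ a b, commB a b = true → y0 a * y0 b = y0 b * y0 a := by
    intro a b h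
    have h' := h
    simp only [commB, Bool.and_eq_true, Nat.blt_eq] at h'
    obtain ⟨⟨ha, hb⟩, hadj⟩ := h'
    have one : ∀ b, b < 12 → commB 1 b = true → Commute (y0 1) (y0 b) := by
      intro b hb h
      rw [y0_one]
      by_cases h1 : b = 1
      · rw [h1, y0_one]
      · rw [y0_ne b h1]
        have : b = 3 ∨ b = 4 ∨ b = 5 ∨ b = 6 ∨ b = 7 ∨ b = 8 ∨ b = 9 ∨ b = 10 ∨ b = 11 := by
          have hn : commB 1 0 = false ∧ commB 1 2 = false := by decide
          have h0 : b ≠ 0 := fun e => by rw [e, hn.1] at h; exact Bool.false_ne_true h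
          have h2 : b ≠ 2 := fun e => by rw [e, hn.2] at h; exact Bool.false_ne_true h
          omega
        rcases this with rfl | rfl | rfl | rfl | rfl | rfl | rfl | rfl | rfl
        exacts [kc 3 (by decide) (by decide) z3 h, kc 4 (by decide) (by decide) z4 h,
          kc 5 (by decide) (by decide) z5 h, kc 6 (by decide) (by decide) z6 h,
          kc 7 (by decide) (by decide) z7 h, k8, k9, kc 10 (by decide) (by decide) z10 h, k11]
    by_cases ea : a = 1
    · subst ea; exact (one b hb h).eq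
    · by_cases eb : b = 1
      · subst eb
        exact (one a ha (by revert a; decide)).eq.symm
      · rw [y0_ne a ea, y0_ne b eb]
        exact ((rel_of hsrel (hc0 a ha ea) (hc0 b hb eb)).2.1 (gn_comm a b h)).eq
  let y : ℕ → E := fun a => if a < 12 then y0 a else y0 0
  have y_lt : ∀ a, a < 12 → y a = y0 a := fun a h => if_pos h
  have yproj : ∀ a, π (y a) = gn a := by
    intro a
    by_cases h : a < 12
    · rw [y_lt a h]; exact y0proj a h
    · show π (if a < 12 then y0 a else y0 0) = gn a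
      rw [if_neg h, y0proj 0 (by decide)]
      obtain ⟨m, rfl⟩ : ∃ m, a = m + 12 := ⟨a - 12, by omega⟩
      rfl
  refine ⟨y,
    { proj := yproj
      sq := ?_, comm := ?_, braid := ?_, seven := ?_, gen := ?_, sigma := ?_, meet := ?_ }⟩
  · intro a
    by_cases h : a < 12
    · rw [y_lt a h]; exact y0sq a h
    · show (if a < 12 then y0 a else y0 0) * (if a < 12 then y0 a else y0 0) = 1
      rw [if_neg h]; exact y0sq 0 (by decide)
  · intro a b h
    have h' := h
    simp only [commB, Bool.and_eq_true, Nat.blt_eq] at h'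
    rw [y_lt a h'.1.1, y_lt b h'.1.2]
    exact y0comm a b h
  · intro a b ha hb h _
    rw [y_lt a ha, y_lt b hb]
    exact y0braid a b ha hb h
  · have e : pw y [2, 3, 4, 5, 6, 7, 10] = pw s [2, 3, 4, 5, 6, 7, 10] := by
      simp [pw, y, y0]
    rw [e, seven_s, y_lt 0 (by decide), y0_ne 0 (by decide)]
  · set Y := Subgroup.closure (y '' {g | g < 12}) with hY
    have hmap : Y.map π = ⊤ := by
      rw [hY, MonoidHom.map_closure, ← Set.image_comp]
      exact (congrArg Subgroup.closure (Set.image_congr fun g _ => yproj g)).trans pw_gn_top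
    have hev : even π ≤ Y := by
      show (commutator Cfsg.Spor.Fi24).comap π ≤ Y
      rw [← hO.perfect, Subgroup.commutator_le]
      intro a ha b hb
      have split : ∀ x ∈ even π, ∃ x' ∈ Y, ∃ r ∈ π.ker, x = x' * r ∧ x' ∈ even π := by
        intro x hx
        obtain ⟨x', hx', e⟩ : π x ∈ Y.map π := hmap ▸ Subgroup.mem_top _
        refine ⟨x', hx', x'⁻¹ * x, ?_, (mul_inv_cancel_left _ _).symm, ?_⟩
        · rw [MonoidHom.mem_ker, map_mul, map_inv, e, inv_mul_cancel]
        · rw [Subgroup.mem_comap, e]; exact hx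
      obtain ⟨a', ha', r, hr, rfl, hae⟩ := split a ha
      obtain ⟨b', hb', r', hr', rfl, hbe⟩ := split b hb
      have h1 := hO.central r hr
      have h2 := hO.central r' hr'
      have hbw : b' * r' ∈ even π := mul_mem hbe (ker_le_even hO hr')
      have e : ⁅a' * r, b' * r'⁆ = ⁅a', b'⁆ := by
        calc ⁅a' * r, b' * r'⁆ = a' * (r * (b' * r')) * r⁻¹ * a'⁻¹ * (r'⁻¹ * b'⁻¹) := by
              rw [commutatorElement_def, mul_inv_rev, mul_inv_rev]; group
          _ = a' * b' * (r' * a'⁻¹) * r'⁻¹ * b'⁻¹ := by rw [(h1 _ hbw).eq]; group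
          _ = ⁅a', b'⁆ := by
              rw [(h2 _ (inv_mem hae)).eq, commutatorElement_def]; group
      rw [e, commutatorElement_def]
      exact mul_mem (mul_mem (mul_mem ha' hb') (inv_mem ha')) (inv_mem hb')
    rw [eq_top_iff]
    intro x _
    obtain ⟨x', hx', e⟩ : π x ∈ Y.map π := hmap ▸ Subgroup.mem_top _
    rw [← mul_inv_cancel_left x' x]
    refine mul_mem hx' (hev (ker_le_even hO ?_))
    rw [MonoidHom.mem_ker, map_mul, map_inv, e, inv_mul_cancel]
  · intro a b ha hb r hr
    have inv : ∀ c, c < 12 → (y c)⁻¹ = y c := fun c hc => by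
      refine inv_eq_of_mul_eq_one_right ?_
      rw [y_lt c hc]; exact y0sq c hc
    have h1 := outer_flip hO (u := y a) (yproj a ▸ gn_not_derived a) hr
    have h2 := outer_flip hO (u := y b) (yproj b ▸ gn_not_derived b) hr
    rw [inv a ha] at h1
    rw [inv b hb] at h2
    rw [h1, h2]
  · rw [eq_bot_iff]
    rintro x ⟨hx, hxk⟩
    rw [Subgroup.mem_bot]
    have key : ∀ x ∈ Subgroup.closure (y '' {g | g < 12 ∧ g ≠ 1}),
        ∃ l : List ℕ, (∀ a ∈ l, Commute (gn a) (gn 0)) ∧ x = pw s l ∧ π x = pw gn l := by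
      intro x hx
      have hg : ∀ g, g < 12 → g ≠ 1 → ∃ l : List ℕ, (∀ a ∈ l, Commute (gn a) (gn 0)) ∧
          y g = pw s l ∧ π (y g) = pw gn l := fun g hg h1 =>
        ⟨[g], by simpa using hc0 g hg h1, by simp [pw, y_lt g hg, y0_ne g h1],
          by simp [pw, yproj g]⟩
      induction hx using Subgroup.closure_induction'' with
      | one => exact ⟨[], by simp, rfl, map_one π⟩
      | mem q hq => obtain ⟨g, ⟨h, h1⟩, rfl⟩ := hq; exact hg g h h1
      | inv_mem q hq =>
        obtain ⟨g, ⟨h, h1⟩, rfl⟩ := hq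
        have e : (y g)⁻¹ = y g := inv_eq_of_mul_eq_one_right (by rw [y_lt g h]; exact y0sq g h)
        rw [e]; exact hg g h h1
      | mul p q _ _ hp hq =>
        obtain ⟨l, hl1, hl2, hl3⟩ := hp
        obtain ⟨l', hl1', hl2', hl3'⟩ := hq
        refine ⟨l ++ l', fun a ha => (List.mem_append.1 ha).elim (hl1 a) (hl1' a), ?_, ?_⟩
        · rw [pw_append, hl2, hl2']
        · rw [map_mul, pw_append, hl3, hl3']
    obtain ⟨l, hl1, hl2, hl3⟩ := key x hx
    rw [MonoidHom.mem_ker.1 hxk] at hl3
    rw [hl2, hsrel l [] hl1 (by simp) (by rw [← hl3, pw_nil]), pw_nil]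

end

end Cfsg.Agent.Lib.Fi24Cover5
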