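import Mathlib
import Cfsg.Agent.Lib.Fi24Cover5.Lifts

/-!
The Schur multiplier of the derived group of the presented Fi24 is cyclic of order three.

A stem extension `σ` is paired with its twist by conjugation with `l`; the derived pairs form a
perfect central extension on which exchanging the two entries lifts `l`.
-/

set_option autoImplicit false
set_option maxRecDepth 100000

namespace Cfsg.Agent.Lib.Fi24Cover5

open Cfsg.Agent.Lib.CosetTable.Lanes Cfsg.Agent.Lib.CosetTable.Lanes.Fi24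
open scoped commutatorElement

/-- conjugation of Fi24' by `l` -/
noncomputable def flipL : MulAut Cfsg.Spor.Fi24' :=
  MulAut.conjNormal (H := commutator Cfsg.Spor.Fi24) (gn 0)

theorem flipL_val (x : Cfsg.Spor.Fi24') : (flipL x : Cfsg.Spor.Fi24) = gn 0 * x * gn 0 := by
  show gn 0 * x * (gn 0)⁻¹ = _
  rw [gn_inv]

theorem flipL_flipL (x : Cfsg.Spor.Fi24') : flipL (flipL x) = x := Subtype.ext (by
  rw [flipL_val, flipL_val, ← mul_assoc, ← mul_assoc, gn_mul_self, one_mul, mul_assoc, gn_mul_self,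
    mul_one])

section

variable {Γ : Type} [Group Γ] (σ : Γ →* Cfsg.Spor.Fi24')

/-- pairs of an element and a twisted partner -/
noncomputable def pairs : Subgroup (Γ × Γ) :=
  (σ.comp (MonoidHom.snd Γ Γ)).eqLocus (flipL.toMonoidHom.comp (σ.comp (MonoidHom.fst Γ Γ)))

theorem mem_pairs {x : Γ × Γ} : x ∈ pairs σ ↔ σ x.2 = flipL (σ x.1) := Iff.rfl

/-- the derived pairs -/
noncomputable def pairs' : Subgroup (Γ × Γ) := ⁅pairs σ, pairs σ⁆

theorem pairs'_le : pairs' σ ≤ pairs σ := Subgroup.commutator_le_self _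

theorem swap_mem {x : Γ × Γ} (hx : x ∈ pairs' σ) : x.swap ∈ pairs' σ := by
  have h1 : (pairs σ).map (MulEquiv.prodComm : Γ × Γ ≃* Γ × Γ).toMonoidHom = pairs σ := by
    refine le_antisymm ?_ fun y hy => ⟨y.swap, ?_, Prod.swap_swap y⟩
    · rintro _ ⟨y, hy, rfl⟩
      show σ y.1 = flipL (σ y.2)
      rw [(mem_pairs σ).1 hy, flipL_flipL]
    · show σ y.1 = flipL (σ y.2)
      rw [(mem_pairs σ).1 hy, flipL_flipL]
  have h2 : (pairs' σ).map (MulEquiv.prodComm : Γ × Γ ≃* Γ × Γ).toMonoidHom = pairs' σ := by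
    rw [pairs', Subgroup.map_commutator, h1]
  rw [← h2]
  exact ⟨x, hx, rfl⟩

/-- exchange of the entries -/
noncomputable def swapAut : MulAut (pairs' σ) where
  toFun x := ⟨x.val.swap, swap_mem σ x.2⟩
  invFun x := ⟨x.val.swap, swap_mem σ x.2⟩
  left_inv x := Subtype.ext (Prod.swap_swap _)
  right_inv x := Subtype.ext (Prod.swap_swap _)
  map_mul' x y := rfl

/-- the group of order two acts by the exchange -/
noncomputable def theta : ℤˣ →* MulAut (pairs' σ) where
  toFun u := if u = 1 then 1 else swapAut σ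
  map_one' := if_pos rfl
  map_mul' u v := by
    rcases Int.units_eq_one_or u with rfl | rfl <;> rcases Int.units_eq_one_or v with rfl | rfl
    all_goals simp
    refine MulEquiv.ext fun x => Subtype.ext ?_
    exact (Prod.swap_swap _).symm

/-- to Fi24 on the derived pairs -/
noncomputable def leftMap : pairs' σ →* Cfsg.Spor.Fi24 :=
  (commutator Cfsg.Spor.Fi24).subtype.comp (σ.comp ((MonoidHom.fst Γ Γ).comp (pairs' σ).subtype))

/-- to Fi24 on the group of order two -/
noncomputable def rightMap : ℤˣ →* Cfsg.Spor.Fi24 where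
  toFun u := if u = 1 then 1 else gn 0
  map_one' := if_pos rfl
  map_mul' u v := by
    rcases Int.units_eq_one_or u with rfl | rfl <;> rcases Int.units_eq_one_or v with rfl | rfl
    all_goals simp [gn_mul_self]

theorem compat (u : ℤˣ) : (leftMap σ).comp (theta σ u).toMonoidHom =
    (MulAut.conj (rightMap u)).toMonoidHom.comp (leftMap σ) := by
  refine MonoidHom.ext fun x => ?_
  rcases Int.units_eq_one_or u with rfl | rfl
  · simp
  · show ((σ (x.val.swap).1 : Cfsg.Spor.Fi24')) = gn 0 * (σ x.val.1 : Cfsg.Spor.Fi24) * (gn 0)⁻¹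
    rw [Prod.fst_swap, (mem_pairs σ).1 (pairs'_le σ x.2), flipL_val, gn_inv]

/-- the extension of Fi24 -/
noncomputable def pairExt : (pairs' σ ⋊[theta σ] ℤˣ) →* Cfsg.Spor.Fi24 :=
  SemidirectProduct.lift (leftMap σ) rightMap (compat σ)

theorem pairExt_inl (d : pairs' σ) :
    pairExt σ (SemidirectProduct.inl d) = (σ d.val.1 : Cfsg.Spor.Fi24) :=
  SemidirectProduct.lift_inl _ _ _ _

theorem pairExt_inr : pairExt σ (SemidirectProduct.inr (-1)) = gn 0 :=
  SemidirectProduct.lift_inr _ _ _ _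

theorem pairExt_even {e : pairs' σ ⋊[theta σ] ℤˣ}
    (he : pairExt σ e ∈ commutator Cfsg.Spor.Fi24) : e = SemidirectProduct.inl e.left := by
  rcases Int.units_eq_one_or e.right with h | h
  · exact SemidirectProduct.ext rfl h
  · exfalso
    rw [← SemidirectProduct.inl_left_mul_inr_right e, map_mul, h, pairExt_inl, pairExt_inr] at he
    exact l_not_derived (by
      simpa using mul_mem (inv_mem (σ e.left.val.1).2) he)

variable (hσ : Cfsg.IsStemExtension σ)
include hσ

theorem fst_pairs : (pairs σ).map (MonoidHom.fst Γ Γ) = ⊤ := by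
  rw [eq_top_iff]
  intro u _
  obtain ⟨v, hv⟩ := hσ.1 (flipL (σ u))
  exact ⟨(u, v), hv, rfl⟩

theorem stem_perfect : commutator Γ = ⊤ := by
  rw [eq_top_iff]
  intro g _
  have hD : commutator Cfsg.Spor.Fi24' = ⊤ := by
    refine Subgroup.map_injective (commutator Cfsg.Spor.Fi24).subtype_injective ?_
    rw [Subgroup.map_subtype_commutator, derived_perfect, ← MonoidHom.range_eq_map,
      Subgroup.range_subtype]
  have hmap : (commutator Γ).map σ = ⊤ := by
    show Subgroup.map σ ⁅(⊤ : Subgroup Γ), (⊤ : Subgroup Γ)⁆ = ⊤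
    rw [Subgroup.map_commutator, Subgroup.map_top_of_surjective σ hσ.1]
    exact hD
  obtain ⟨c, hc, hce⟩ : σ g ∈ (commutator Γ).map σ := by rw [hmap]; trivial
  have : g * c⁻¹ ∈ commutator Γ := hσ.2.2 (by
    rw [MonoidHom.mem_ker, map_mul, map_inv, hce, mul_inv_cancel])
  simpa using mul_mem this hc

theorem fst_pairs' : (pairs' σ).map (MonoidHom.fst Γ Γ) = ⊤ := by
  rw [pairs', Subgroup.map_commutator, fst_pairs σ hσ, ← commutator_def, stem_perfect σ hσ]

theorem ker_pair_central {x : Γ × Γ} (hx : x ∈ pairs σ) (h : σ x.1 = 1) (q : Γ × Γ) :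
    Commute x q := by
  have h2 : σ x.2 = 1 := by rw [(mem_pairs σ).1 hx, h, map_one]
  exact Prod.ext (Subgroup.mem_center_iff.1 (hσ.2.1 h) q.1).symm
    (Subgroup.mem_center_iff.1 (hσ.2.1 h2) q.2).symm

theorem pairs'_perfect : ⁅pairs' σ, pairs' σ⁆ = pairs' σ := by
  refine le_antisymm (Subgroup.commutator_le_self _) ?_
  conv_lhs => rw [pairs']
  rw [Subgroup.commutator_le]
  intro a ha b hb
  have hsplit : ∀ x ∈ pairs σ, ∃ x' ∈ pairs' σ, ∃ z, (∀ q : Γ × Γ, Commute z q) ∧ x = x' * z := by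
    intro x hx
    obtain ⟨x', hx', e⟩ : x.1 ∈ (pairs' σ).map (MonoidHom.fst Γ Γ) := by
      rw [fst_pairs' σ hσ]; trivial
    refine ⟨x', hx', x'⁻¹ * x, ?_, (mul_inv_cancel_left _ _).symm⟩
    refine ker_pair_central σ hσ (mul_mem (inv_mem (pairs'_le σ hx')) hx) ?_
    show σ (x'.1⁻¹ * x.1) = 1
    rw [show x'.1 = x.1 from e, inv_mul_cancel, map_one]
  obtain ⟨a', ha', z, hz, rfl⟩ := hsplit a ha
  obtain ⟨b', hb', w, hw, rfl⟩ := hsplit b hb
  have e : ⁅a' * z, b' * w⁆ = ⁅a', b'⁆ := by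
    calc ⁅a' * z, b' * w⁆
        = a' * (z * (b' * w)) * z⁻¹ * a'⁻¹ * (w⁻¹ * b'⁻¹) := by
          rw [commutatorElement_def, mul_inv_rev, mul_inv_rev]; group
      _ = a' * b' * (w * a'⁻¹) * w⁻¹ * b'⁻¹ := by rw [(hz _).eq]; group
      _ = ⁅a', b'⁆ := by rw [(hw _).eq, commutatorElement_def]; group
  rw [e]
  exact Subgroup.commutator_mem_commutator ha' hb'

theorem pairExt_over : Over (pairExt σ) (SemidirectProduct.inr (-1)) := by
  have heven : (commutator Cfsg.Spor.Fi24).comap (pairExt σ) =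
      (SemidirectProduct.inl : pairs' σ →* pairs' σ ⋊[theta σ] ℤˣ).range := by
    ext e
    constructor
    · exact fun he => ⟨e.left, (pairExt_even σ he).symm⟩
    · rintro ⟨d, rfl⟩
      rw [Subgroup.mem_comap, pairExt_inl]
      exact (σ d.val.1).2
  have hfst : ∀ x ∈ commutator Cfsg.Spor.Fi24, ∃ d : pairs' σ,
      (σ d.val.1 : Cfsg.Spor.Fi24) = x := by
    intro x hx
    obtain ⟨u, hu⟩ := hσ.1 ⟨x, hx⟩
    obtain ⟨d, hd, e⟩ : u ∈ (pairs' σ).map (MonoidHom.fst Γ Γ) := by
      rw [fst_pairs' σ hσ]; trivial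
    exact ⟨⟨d, hd⟩, by rw [show d.1 = u from e, hu]⟩
  refine ⟨fun x => ?_, pairExt_inr σ, ?_, fun z hz e he => ?_, ?_⟩
  · rcases derived_dichotomy x with h | h
    · obtain ⟨d, hd⟩ := hfst x h
      exact ⟨_, (pairExt_inl σ d).trans hd⟩
    · obtain ⟨d, hd⟩ := hfst _ h
      refine ⟨SemidirectProduct.inl d * SemidirectProduct.inr (-1), ?_⟩
      rw [map_mul, pairExt_inl, pairExt_inr, hd, mul_assoc, gn_mul_self, mul_one]
  · rw [← map_mul, show ((-1 : ℤˣ) * -1) = 1 by decide, map_one]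
  · rw [heven] at he
    obtain ⟨d, rfl⟩ := he
    have hz1 : pairExt σ z = 1 := hz
    have hzl := pairExt_even σ (e := z) (by rw [hz1]; exact one_mem _)
    rw [hzl, pairExt_inl] at hz1
    have h1 : σ z.left.val.1 = 1 := Subtype.ext hz1
    rw [hzl]
    exact (show Commute z.left d from
      Subtype.ext (ker_pair_central σ hσ (pairs'_le σ z.left.2) h1 d.val)).map _
  · rw [heven, MonoidHom.range_eq_map, ← Subgroup.map_commutator]
    congr 1
    refine Subgroup.map_injective (pairs' σ).subtype_injective ?_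
    rw [← commutator_def, Subgroup.map_subtype_commutator, pairs'_perfect σ hσ,
      ← MonoidHom.range_eq_map, Subgroup.range_subtype]

/-- the kernel of a stem extension is generated by an element of order dividing three -/
theorem exists_ker_gen : ∃ s : σ.ker, s ^ 3 = 1 ∧ ∀ x : σ.ker, ∃ k : ℤ, s ^ k = x := by
  obtain ⟨y, hy⟩ := exists_lifted (pairExt_over σ hσ)
  obtain ⟨t, ht, ht3, -, hle⟩ := exists_gen_ker hy
  have htl := pairExt_even σ (e := t) (by rw [MonoidHom.mem_ker.1 ht]; exact one_mem _)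
  have ht1 : σ t.left.val.1 = 1 := by
    have := MonoidHom.mem_ker.1 ht
    rw [htl, pairExt_inl] at this
    exact Subtype.ext this
  have h3 : t.left ^ 3 = 1 := by
    refine SemidirectProduct.inl_injective (φ := theta σ) ?_
    rw [map_pow, ← htl, ht3, map_one]
  refine ⟨⟨t.left.val.1, ht1⟩, Subtype.ext ?_, fun x => ?_⟩
  · show t.left.val.1 ^ 3 = 1
    rw [← Prod.pow_fst, ← SubgroupClass.coe_pow, h3]
    rfl
  · obtain ⟨d, hd, e⟩ : (x : Γ) ∈ (pairs' σ).map (MonoidHom.fst Γ Γ) := by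
      rw [fst_pairs' σ hσ]; trivial
    have hker : (SemidirectProduct.inl ⟨d, hd⟩ : pairs' σ ⋊[theta σ] ℤˣ) ∈ (pairExt σ).ker := by
      rw [MonoidHom.mem_ker, pairExt_inl]
      show (σ d.1 : Cfsg.Spor.Fi24) = 1
      rw [show d.1 = (x : Γ) from e, MonoidHom.mem_ker.1 x.2]
      rfl
    obtain ⟨k, hk⟩ := Subgroup.mem_zpowers_iff.1 (hle hker)
    refine ⟨k, Subtype.ext ?_⟩
    rw [htl, ← map_zpow] at hk
    have h4 := congrArg (fun q : pairs' σ => q.val.1) (SemidirectProduct.inl_injective hk)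
    show t.left.val.1 ^ k = (x : Γ)
    rw [← e, ← Prod.pow_fst, ← SubgroupClass.coe_zpow]
    exact h4

end

/-- the Schur multiplier of Fi24' is cyclic of order three -/
theorem schur_fi24' : Cfsg.HasCyclicSchurMultiplier Cfsg.Spor.Fi24' 3 := by
  refine ⟨exists_triple_cover, fun Γ _ _ σ hσ => ?_⟩
  obtain ⟨s, hs3, hgen⟩ := exists_ker_gen σ hσ
  refine ⟨{ toFun := fun a => s ^ (Multiplicative.toAdd a).val
            map_one' := by simp
            map_mul' := fun a b => ?_ }, fun x => ?_⟩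
  · show s ^ (Multiplicative.toAdd a + Multiplicative.toAdd b).val = _
    rw [ZMod.val_add, ← pow_add, ← pow_eq_pow_mod _ hs3]
  · obtain ⟨k, rfl⟩ := hgen x
    refine ⟨Multiplicative.ofAdd ((k : ZMod 3)), ?_⟩
    show s ^ ((k : ZMod 3)).val = s ^ k
    have h3 : s ^ (3 : ℤ) = 1 := by rw [show (3 : ℤ) = ((3 : ℕ) : ℤ) from rfl, zpow_natCast, hs3]
    rw [← zpow_natCast, ZMod.val_intCast]
    conv_rhs => rw [← Int.mul_ediv_add_emod k 3, zpow_add, zpow_mul, h3, one_zpow, one_mul]
    rfl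

end Cfsg.Agent.Lib.Fi24Cover5
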