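import Cfsg.Agent.Lib.CosetTable.Lanes.Fi24.Sys
import Cfsg.Agent.Lib.Fi24Cover5.Plus
import Cfsg.Agent.Lib.Fi24Cover5.Minus

/-!
Offsets of words on the triple cover, as two bit vectors.
-/

namespace Cfsg.Agent.Lib.Fi24Cover5

open Cfsg.Agent.Lib.CosetTable.Lanes

/-- lanes of `x` outside `y` -/
noncomputable def minusBits (x y : Nat) : Nat := Nat.xor x (Nat.land x y)

/-- `v - d` modulo three, `v = (vp, vm)`, `d = (dp, dm)`, disjoint vectors -/
noncomputable def subThree (vp vm dp dm : Nat) (k : Nat → Nat → Bool) : Bool :=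
  strict (Nat.lor vp vm) fun v => strict (Nat.lor dp dm) fun d =>
    strict (Nat.lor (minusBits vp d) (Nat.lor (minusBits dm v) (Nat.land vm dp))) fun p =>
      strict (Nat.lor (minusBits vm d) (Nat.lor (minusBits dp v) (Nat.land vp dm))) fun m => k p m

/-- the offsets of a word -/
noncomputable def offs (S : Sys) (P M : List Nat) (w : List Nat) : (Nat → Nat → Bool) → Bool :=
  List.rec (motive := fun _ => (Nat → Nat → Bool) → Bool) (fun k => k 0 0)
    (fun a _ ih k => ih fun dp dm =>
      subThree (getK P a) (minusBits (getK M a) (getK P a)) dp dm fun p m =>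
        strict (S.route a p) fun p' => strict (S.route a m) fun m' => k p' m')
    w

/-- the offsets of a word vanish -/
noncomputable def offZero (w : List Nat) : Bool :=
  offs Fi24.sys plusL minusL w fun p m => both (Nat.beq p 0) (Nat.beq m 0)

/-- `n` copies of a word -/
noncomputable def copies (w : List Nat) (n : Nat) : List Nat :=
  Nat.rec (motive := fun _ => List Nat) [] (fun _ ih =>
    List.rec (motive := fun _ => List Nat) ih (fun x _ r => x :: r) w) n

/-- adjacency of two nodes -/
noncomputable def adjN (a b : Nat) : Bool :=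
  List.rec (motive := fun _ => Bool) false
    (fun p _ ih => Bool.rec (motive := fun _ => Bool) ih true
      (Bool.rec (motive := fun _ => Bool)
        (both (Nat.beq p.1 b) (Nat.beq p.2 a)) true (both (Nat.beq p.1 a) (Nat.beq p.2 b))))
    [(0, 1), (1, 2), (2, 3), (3, 4), (4, 5), (5, 6), (5, 10), (6, 7), (7, 8), (8, 9), (10, 11)]

/-- the Coxeter relator of two nodes -/
noncomputable def coxWord (a b : Nat) : List Nat :=
  copies [a, b] (Bool.rec (motive := fun _ => Nat)
    (Bool.rec (motive := fun _ => Nat) 2 3 (adjN a b)) 1 (Nat.beq a b))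

/-- the twelve nodes -/
def twelve : List Nat := [0, 1, 2, 3, 4, 5, 6, 7, 8, 9, 10, 11]

/-- the Coxeter relators with first node in `as` have offset zero -/
noncomputable def coxCheck (as : List Nat) : Bool :=
  allB (fun a => allB (fun b => offZero (coxWord a b)) twelve) as

/-- the word of the E7 relation -/
noncomputable def sevenWord : List Nat := 0 :: copies [10, 7, 6, 5, 4, 3, 2] 9

/-- the spider word has offset minus one everywhere -/
noncomputable def spiderCheck : Bool :=
  offs Fi24.sys plusL minusL (copies [5, 4, 3, 2, 1, 0, 5, 6, 7, 8, 9, 5, 10, 11] 17) fun p m =>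
    both (Nat.beq p 0) (Nat.beq m Fi24.sys.full)

end Cfsg.Agent.Lib.Fi24Cover5
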