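import Cfsg.Agent.Lib.CosetTable.Lanes.Ops

/-! Generated: steps and seeds. -/

set_option maxRecDepth 100000
set_option Elab.async false

namespace Cfsg.Agent.Lib.Fi24Cover5

open Cfsg.Agent.Lib.CosetTable.Lanes

/-- the last steps of the closure, without the spider word -/
def closeOps : List Op :=
  [.comm 0 [2, 3, 4, 5, 6, 7, 8, 9, 10, 11],
    .comm 1 [3, 4, 5, 6, 7, 8, 9, 10, 11],
    .comm 2 [0, 4, 5, 6, 7, 8, 9, 10, 11],
    .comm 4 [0, 1, 2, 6, 7, 8, 9, 10, 11],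
    .comm 5 [0, 1, 2, 3, 7, 8, 9, 11],
    .comm 6 [0, 1, 2, 3, 4, 8, 9, 10, 11],
    .comm 7 [0, 1, 2, 3, 4, 5, 9, 10, 11],
    .comm 8 [0, 1, 2, 3, 4, 5, 6, 10, 11],
    .comm 10 [0, 1, 2, 3, 4, 6, 7, 8, 9],
    .word [1, 2, 1, 2, 1, 2],
    .word [2, 3, 2, 3, 2, 3],
    .word [3, 4, 3, 4, 3, 4],
    .word [4, 5, 4, 5, 4, 5],
    .word [5, 6, 5, 6, 5, 6],
    .word [7, 8, 7, 8, 7, 8],
    .word [10, 11, 10, 11, 10, 11],
    .word [0, 10, 7, 6, 5, 4, 3, 2, 10, 7, 6, 5, 4, 3, 2, 10, 7, 6, 5, 4, 3, 2, 10, 7, 6, 5, 4, 3, 2, 10, 7, 6, 5, 4, 3, 2, 10, 7, 6, 5, 4, 3, 2, 10, 7, 6, 5, 4, 3, 2, 10, 7, 6, 5, 4, 3, 2, 10, 7, 6, 5, 4, 3, 2],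
    .word [0, 3, 5, 7, 2, 4, 6, 10, 3, 5, 7, 2, 4, 6, 10, 3, 5, 7, 2, 4, 6, 10, 3, 5, 7, 2, 4, 6, 10, 3, 5, 7, 2, 4, 6, 10, 3, 5, 7, 2, 4, 6, 10, 3, 5, 7, 2, 4, 6, 10, 3, 5, 7, 2, 4, 6, 10, 3, 5, 7, 2, 4, 6, 10],
    .sym 7,
    .sym 10,
    .comm 3 [0, 1, 5, 6, 7, 8, 9, 10, 11],
    .comm 6 [0, 1, 2, 3, 4, 8, 9, 10, 11],
    .comm 8 [0, 1, 2, 3, 4, 5, 6, 10, 11],
    .comm 9 [0, 1, 2, 3, 4, 5, 6, 7, 10, 11]]

/-- moving of signs: `(true, a, b)` along a braid, `(false, a, b)` along a commutation -/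
def signOps : List (Bool × Nat × Nat) :=
  [(false, 2, 0), (true, 2, 1), (true, 2, 3), (false, 2, 4), (false, 2, 5), (false, 2, 6), (false, 2, 7), (false, 2, 8), (false, 2, 9), (false, 2, 10), (false, 2, 11), (false, 3, 1), (true, 3, 4), (false, 3, 5), (false, 3, 6), (false, 3, 8), (false, 3, 10), (false, 3, 11), (false, 4, 0), (false, 4, 2), (true, 4, 5), (false, 5, 1), (false, 5, 3), (true, 5, 6), (false, 5, 7), (false, 5, 8), (false, 5, 9), (true, 5, 10), (false, 6, 0), (false, 6, 2), (false, 6, 4), (true, 6, 7), (false, 7, 1), (false, 7, 3), (false, 7, 5), (true, 7, 8), (false, 8, 0), (false, 8, 2), (false, 8, 4), (false, 8, 6), (true, 8, 9), (false, 9, 1), (false, 9, 7), (false, 9, 10), (false, 10, 0), (false, 10, 2), (false, 10, 4), (false, 10, 7), (false, 10, 8), (true, 10, 11), (false, 11, 3), (false, 11, 5), (false, 11, 6), (false, 11, 7), (false, 11, 8), (false, 1, 3), (false, 1, 4),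 (false, 1, 5), (false, 1, 6), (false, 1, 7), (false, 1, 8), (false, 1, 9), (false, 1, 10), (false, 1, 11), (true, 2, 3), (false, 2, 4), (false, 2, 5), (false, 2, 6), (false, 2, 7), (false, 2, 8), (false, 2, 10), (false, 2, 11), (false, 3, 0), (false, 3, 1), (true, 3, 4), (false, 3, 5), (false, 3, 6), (false, 3, 7), (false, 3, 8), (false, 3, 10), (false, 3, 11), (false, 4, 0), (false, 4, 2), (true, 4, 5), (false, 5, 1), (false, 5, 3), (true, 5, 6), (false, 6, 0), (false, 6, 2), (false, 6, 4), (true, 6, 7), (false, 6, 8), (false, 6, 10), (false, 7, 1), (false, 7, 3), (false, 7, 5), (true, 7, 8), (false, 7, 10), (false, 8, 0), (false, 8, 6), (false, 1, 4), (false, 1, 5), (false, 1, 6), (false, 1, 7), (false, 1, 8), (false, 1, 9), (false, 2, 5), (true, 3, 4), (false, 3, 5), (false, 4, 2), (true, 4, 5), (false, 5, 3), (true, 5, 10), (false, 6, 1), (false, 10, 4), (false, 1, 4), (false, 1, 5), (false,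 2, 4), (false, 1, 3)]

/-- the generator and lane of the first sign -/
def seedGen : Nat := 2
/-- the lane of the first sign -/
def seedLane : Nat := 226703
/-- a neighbour fixing the lane -/
def seedNb : Nat := 1
/-- a known path to the lane -/
def seedPath : List Nat := [1, 2, 3, 4, 5, 6, 7, 8, 9, 10, 5, 4, 3, 6, 5, 7, 11, 10, 5, 4, 3, 6, 5, 4, 7, 6, 8, 7, 10, 5, 6, 11, 10, 5, 4, 3]

end Cfsg.Agent.Lib.Fi24Cover5
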