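import Cfsg.Agent.Lib.CosetTable.Lanes.Fi24.Sys
import Cfsg.Agent.Lib.CosetTable.Lanes.Fi24.State18
import Cfsg.Agent.Lib.CosetTable.Lanes.Fi24.Grow
import Cfsg.Agent.Lib.Fi24Cover5.Steps

/-!
Moving a sign around the lanes.

Where the closure of the coset table of Fi24 stops without the spider word, every edge left open is a
generator fixing a lane, and it acts there by a central value `t` or `t⁻¹`.  The two bit vectors of a
generator hold the lanes with `t` and with `t⁻¹`.
-/

namespace Cfsg.Agent.Lib.Fi24Cover5

open Cfsg.Agent.Lib.CosetTable.Lanes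

/-- lanes reached from `X` along `b` by known edges -/
noncomputable def alongK (S : Sys) (K : List Nat) (b X : Nat) : Nat :=
  S.route b (Nat.land X (getK K b))

/-- one step -/
noncomputable def signStep (S : Sys) (K : List Nat) (o : Bool × Nat × Nat) (P M : List Nat)
    (k : List Nat → List Nat → Bool) : Bool :=
  Bool.rec (motive := fun _ => Bool)
    (strict (alongK S K o.2.2 (getK M o.2.1)) fun p =>
      strict (alongK S K o.2.2 (getK P o.2.1)) fun m =>
        orAt P o.2.1 p fun P' => orAt M o.2.1 m fun M' => k P' M')
    (strict (alongK S K o.2.1 (alongK S K o.2.2 (getK P o.2.1))) fun p =>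
      strict (alongK S K o.2.1 (alongK S K o.2.2 (getK M o.2.1))) fun m =>
        orAt P o.2.2 p fun P' => orAt M o.2.2 m fun M' => k P' M')
    o.1

/-- all steps -/
noncomputable def signGo (S : Sys) (K : List Nat) (os : List (Bool × Nat × Nat)) :
    List Nat → List Nat → (List Nat → List Nat → Bool) → Bool :=
  List.rec (motive := fun _ => List Nat → List Nat → (List Nat → List Nat → Bool) → Bool)
    (fun P M k => k P M)
    (fun o _ ih P M k => signStep S K o P M fun P' M' => ih P' M' k) os

/-- the path `w` from the lane set `x` uses known edges and ends in `y` -/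
noncomputable def walkOK (S : Sys) (K : List Nat) (w : List Nat) : Nat → Nat → Bool :=
  List.rec (motive := fun _ => Nat → Nat → Bool) (fun x y => Nat.beq x y)
    (fun g _ ih x y => both (Nat.beq (Nat.land x (getK K g)) x) (strict (S.route g x) fun x' => ih x' y))
    w

/-- the empty knowledge with one bit for the seed -/
noncomputable def seedP : List Nat :=
  [0, 0, Nat.shiftLeft 1 seedLane, 0, 0, 0, 0, 0, 0, 0, 0, 0]

/-- the empty knowledge -/
def seedM : List Nat := [0, 0, 0, 0, 0, 0, 0, 0, 0, 0, 0, 0]

/-- the facts at the seed -/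
noncomputable def seedOK (S : Sys) (K : List Nat) : Bool :=
  both (walkOK S K seedPath (Nat.shiftLeft 1 Fi24.base) (Nat.shiftLeft 1 seedLane))
    (both (Nat.beq (S.route seedGen (Nat.shiftLeft 1 seedLane)) (Nat.shiftLeft 1 seedLane))
      (both (Nat.beq (S.route seedNb (Nat.shiftLeft 1 seedLane)) (Nat.shiftLeft 1 seedLane))
        (Nat.beq (Nat.land (Nat.shiftLeft 1 seedLane) (getK K seedNb))
          (Nat.shiftLeft 1 seedLane))))

/-- every edge of a generator is known or signed -/
noncomputable def coverOK (S : Sys) (K P M : List Nat) : Bool :=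
  allB (fun g => Nat.beq (Nat.lor (getK K g) (Nat.lor (getK P g) (getK M g))) S.full)
    [0, 1, 2, 3, 4, 5, 6, 7, 8, 9, 10, 11]

/-- the whole check -/
noncomputable def signCheck : Bool :=
  runOps Fi24.sys closeOps Fi24.state18 fun K =>
    both (seedOK Fi24.sys K) (signGo Fi24.sys K signOps seedP seedM fun P M => coverOK Fi24.sys K P M)

end Cfsg.Agent.Lib.Fi24Cover5
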